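import Groth.Agent.Lib.Pinch.StalkFrame
import Mathlib.LinearAlgebra.Matrix.NonsingularInverse

/-!
# Spreading out frames, frames and isomorphisms
-/

set_option autoImplicit false
set_option linter.style.haveILetI false
universe u

open CategoryTheory CategoryTheory.Limits AlgebraicGeometry Opposite TopologicalSpace
open ZarCoh.FlatBC.PullbackSections (pbRes)

namespace Groth.Agent.Lib.Pinch.StalkFrame

open Groth.Agent.Lib.Modules Groth.Agent.Lib.TensorMod.Dual

variable {X Y : Scheme.{u}} {M N : X.Modules} {n : ℕ} {U V : X.Opens}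

theorem IsFrame.res {e : Fin n → Γ(M, U)} (he : IsFrame M U e) (h : V ≤ U) :
    IsFrame M V fun i => rs M h (e i) := fun x hx => by
  have hg : (fun i => M.presheaf.germ V x hx (rs M h (e i))) = fun i => M.presheaf.germ U x (h hx) (e i) :=
    funext fun i => TopCat.Presheaf.germ_res_apply M.presheaf (homOfLE h) x hx (e i)
  simpa only [congrFun hg] using he x (h hx)

theorem germ_map_comb {e : Fin n → Γ(M, U)} (φ : M ⟶ N) {x : X} (hx : x ∈ U)
    (c : Fin n → X.presheaf.stalk x) :
    ∑ i, c i • N.presheaf.germ U x hx (φ.app U (e i)) =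
      StalkModule.stalkMapₗ φ x (∑ i, c i • M.presheaf.germ U x hx (e i)) := by
  simp only [map_sum, map_smul, StalkModule.stalkMapₗ_germ]

theorem IsFrame.map_iso {e : Fin n → Γ(M, U)} (he : IsFrame M U e) (φ : M ≅ N) :
    IsFrame N U fun i => φ.hom.app U (e i) := fun x hx => by
  simp only [germ_map_comb φ.hom hx]
  exact (StalkModule.stalkLinearEquiv φ x).bijective.comp (he x hx)

/-- A morphism carrying frames to frames is an isomorphism. -/
theorem isIso_of_frames (φ : M ⟶ N)
    (h : ∀ x : X, ∃ (U : X.Opens) (n : ℕ) (e : Fin n → Γ(M, U)), x ∈ U ∧ IsFrame M U e ∧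
      IsFrame N U fun i => φ.app U (e i)) : IsIso φ := by
  refine (StalkModule.isIso_iff_stalkMapₗ_bijective φ).2 fun x => ?_
  obtain ⟨U, n, e, hx, he, hφe⟩ := h x
  have h1 := hφe x hx
  simp only [germ_map_comb φ hx] at h1
  exact (Function.Bijective.of_comp_iff _ (he x hx)).1 h1

/-- Sections giving coordinates on every smaller open form a frame. -/
theorem IsFrame.of_comb {e : Fin n → Γ(M, U)}
    (he : ∀ (W : X.Opens) (h : W ≤ U), Function.Bijective (comb e h)) : IsFrame M U e := by
  intro x hx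
  refine ⟨fun c c' hcc => ?_, fun v => ?_⟩
  · choose O hxO t ht using fun i => TopCat.Presheaf.exists_germ_eq X.presheaf (c i)
    choose O' hxO' t' ht' using fun i => TopCat.Presheaf.exists_germ_eq X.presheaf (c' i)
    let W : X.Opens := U ⊓ (Finset.univ.inf O ⊓ Finset.univ.inf O')
    have hmem : ∀ (O : Fin n → X.Opens), (∀ i, x ∈ O i) → x ∈ Finset.univ.inf O := fun O h => by
      rw [← SetLike.mem_coe, Opens.coe_finset_inf, Finset.inf_set_eq_iInter]
      simp only [Set.mem_iInter]
      exact fun i _ => h i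
    have hxW : x ∈ W := ⟨hx, hmem O hxO, hmem O' hxO'⟩
    have h₁ : ∀ i, W ≤ O i := fun i =>
      inf_le_right.trans (inf_le_left.trans (Finset.inf_le (Finset.mem_univ i)))
    have h₂ : ∀ i, W ≤ O' i := fun i =>
      inf_le_right.trans (inf_le_right.trans (Finset.inf_le (Finset.mem_univ i)))
    have hg : M.presheaf.germ W x hxW (comb e inf_le_left fun i => rf (h₁ i) (t i)) =
        M.presheaf.germ W x hxW (comb e inf_le_left fun i => rf (h₂ i) (t' i)) := by
      rw [germ_comb, germ_comb]
      refine Eq.trans (Finset.sum_congr rfl fun i _ => ?_) (hcc.trans (Finset.sum_congr rfl fun i _ => ?_))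
      · exact congrArg (· • _)
          ((TopCat.Presheaf.germ_res_apply X.presheaf (homOfLE (h₁ i)) x hxW (t i)).trans (ht i))
      · exact congrArg (· • _)
          ((TopCat.Presheaf.germ_res_apply X.presheaf (homOfLE (h₂ i)) x hxW (t' i)).trans (ht' i)).symm
    obtain ⟨W', hxW', i₁, i₂, hW'⟩ := TopCat.Presheaf.germ_eq M.presheaf x hxW hxW _ _ hg
    change rs M i₁.le _ = rs M i₁.le _ at hW'
    rw [rs_comb, rs_comb] at hW'
    have := (he W' _).1 hW'
    funext i
    have h3 := congrArg (X.presheaf.germ W' x hxW') (congrFun this i)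
    simp only [rf_rf] at h3
    rw [TopCat.Presheaf.germ_res_apply X.presheaf _ x hxW' (t i),
      TopCat.Presheaf.germ_res_apply X.presheaf _ x hxW' (t' i), ht, ht'] at h3
    exact h3
  · obtain ⟨O, hxO, s, hs⟩ := TopCat.Presheaf.exists_germ_eq M.presheaf v
    obtain ⟨c, hc⟩ := (he (U ⊓ O) inf_le_left).2 (rs M inf_le_right s)
    refine ⟨fun i => X.presheaf.germ (U ⊓ O) x ⟨hx, hxO⟩ (c i), ?_⟩
    refine (germ_comb e inf_le_left c ⟨hx, hxO⟩).symm.trans ?_
    rw [hc]
    exact (TopCat.Presheaf.germ_res_apply M.presheaf (homOfLE inf_le_right) x ⟨hx, hxO⟩ s).trans hs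

/-- A module with a frame on `U` is free on `U`. -/
theorem IsFrame.iso_free {e : Fin n → Γ(M, U)} (he : IsFrame M U e) :
    Nonempty (M.restrict U.ι ≅ FlatMod.freeMod (↑U) n) := by
  let s : Fin n → Γ(M.restrict U.ι, ⊤) := fun i => rs M (U.ι_image_le ⊤) (e i)
  let φ := Free.freeHom s
  have : IsIso φ := by
    refine (StalkModule.isIso_iff_stalkMapₗ_bijective φ).2 fun y => ?_
    let ε := StalkRestrict.restrictStalkAddEquiv U.ι M y
    let b := FreeStalk.stalkBasis (↑U) n y
    have hσ : Function.Bijective (U.ι.stalkMap y) :=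
      ConcreteCategory.bijective_of_isIso (U.ι.stalkMap y)
    have h1 : ε ∘ StalkModule.stalkMapₗ φ y ∘ b.equivFun.symm ∘ (fun c => U.ι.stalkMap y ∘ c) =
        fun c : Fin n → X.presheaf.stalk (U.ι y) =>
          ∑ i, c i • M.presheaf.germ U (U.ι y) y.2 (e i) := by
      funext c
      simp only [Function.comp_apply, Module.Basis.equivFun_symm_apply, map_sum, map_smul]
      refine Finset.sum_congr rfl fun i _ => ?_
      rw [FreeStalk.stalkBasis_apply, Free.freeHom_stalk_germ]
      refine (StalkRestrict.restrictStalkAddEquiv_smul U.ι M y (c i) _).trans (congrArg _ ?_)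
      exact FreeStalk.germ_restrict U.ι M (U.ι_image_le ⊤) (e i)
    have h2 := he (U.ι y) y.2
    rw [← h1, Function.Bijective.of_comp_iff' ε.bijective] at h2
    exact (Function.Bijective.of_comp_iff _
      (b.equivFun.symm.bijective.comp (Function.Bijective.comp_left hσ))).1 h2
  exact ⟨(asIso φ).symm⟩

/-- Modules of rank `n` have frames with `n` members. -/
theorem exists_isFrame_of_rank (hM : FlatMod.IsFinLocFreeOfRank n M) (x₀ : X) :
    ∃ (U : X.Opens) (e : Fin n → Γ(M, U)), x₀ ∈ U ∧ IsFrame M U e := by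
  obtain ⟨U, hx₀, hi⟩ := hM x₀
  obtain ⟨e, he⟩ := exists_isFrame_of_iso hi.some
  exact ⟨U, e, hx₀, he⟩

/-- If the germs of `n` sections form a basis after pulling back, they form a frame near the point. -/
theorem exists_isFrame_nhd (f : Y ⟶ X) (hM : FlatMod.IsFinLocFreeOfRank n M)
    (s : Fin n → Γ(M, U)) {V : Y.Opens} (hV : V ≤ f ⁻¹ᵁ U)
    (hs : IsFrame ((Scheme.Modules.pullback f).obj M) V fun i => pbRes f M hV (s i))
    (y : Y) (hy : y ∈ V) :
    ∃ (W : X.Opens) (hW : W ≤ U), f y ∈ W ∧ IsFrame M W fun i => rs M hW (s i) := by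
  obtain ⟨O, e, hxO, he⟩ := exists_isFrame_of_rank hM (f y)
  have hx : f y ∈ U ⊓ O := ⟨hV hy, hxO⟩
  choose C hC using fun i => comb_surjective he (inf_le_right : U ⊓ O ≤ O) (rs M inf_le_left (s i))
  let A : Matrix (Fin n) (Fin n) Γ(X, U ⊓ O) := C
  have hgerm : ∀ (x : X) (hxW : x ∈ U ⊓ O) (c : Fin n → X.presheaf.stalk x),
      ∑ i, c i • M.presheaf.germ U x hxW.1 (s i) =
        ∑ j, (Matrix.vecMul c (A.map (X.presheaf.germ (U ⊓ O) x hxW))) j •
          M.presheaf.germ O x hxW.2 (e j) := by
    intro x hxW c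
    have h1 : ∀ i, M.presheaf.germ U x hxW.1 (s i) =
        ∑ j, X.presheaf.germ (U ⊓ O) x hxW (A i j) • M.presheaf.germ O x hxW.2 (e j) := fun i => by
      refine Eq.trans ?_ (germ_comb e inf_le_right (C i) hxW)
      rw [hC i]
      exact (TopCat.Presheaf.germ_res_apply M.presheaf (homOfLE inf_le_left) x hxW (s i)).symm
    simp only [h1, Finset.smul_sum, smul_smul, Matrix.vecMul, dotProduct, Finset.sum_smul,
      Matrix.map_apply]
    exact Finset.sum_comm
  let W' : Y.Opens := V ⊓ f ⁻¹ᵁ (U ⊓ O)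
  have hyW' : y ∈ W' := ⟨hy, hx⟩
  have hWUO : W' ≤ f ⁻¹ᵁ (U ⊓ O) := inf_le_right
  have hWO : W' ≤ f ⁻¹ᵁ O := hWUO.trans (f.preimage_mono inf_le_right)
  have hdet : IsUnit (X.presheaf.germ (U ⊓ O) (f y) hx A.det) := by
    refine isUnit_of_map_unit (f.stalkMap y).hom _ ?_
    let B := (A.map (X.presheaf.germ (U ⊓ O) (f y) hx)).map (f.stalkMap y)
    suffices hB : IsUnit B.det by
      rwa [show B.det = f.stalkMap y (X.presheaf.germ (U ⊓ O) (f y) hx A.det) from
        (RingHom.map_det (f.stalkMap y).hom _).symm.trans (congrArg _ (RingHom.map_det _ A).symm)] at hB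
    have heY := he.pbRes f hWO
    refine (Matrix.isUnit_iff_isUnit_det _).1 (Matrix.vecMul_surjective_iff_isUnit.1 fun c => ?_)
    have hrel : ∀ d : Fin n → Y.presheaf.stalk y,
        ∑ i, d i • ((Scheme.Modules.pullback f).obj M).presheaf.germ V y hy (pbRes f M hV (s i)) =
          ∑ j, Matrix.vecMul d B j •
            ((Scheme.Modules.pullback f).obj M).presheaf.germ W' y hyW' (pbRes f M hWO (e j)) := by
      intro d
      have hrs : ∀ i, pbRes f M hWUO (rs M inf_le_left (s i)) =
          rs _ (inf_le_left : W' ≤ V) (pbRes f M hV (s i)) := fun i =>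
        (pbRes_rs f M _ _ _).trans (rs_pbRes f M _ _ _).symm
      have hexp : ∀ i, ((Scheme.Modules.pullback f).obj M).presheaf.germ V y hy (pbRes f M hV (s i)) =
          ∑ j, B i j • ((Scheme.Modules.pullback f).obj M).presheaf.germ W' y hyW'
            (pbRes f M hWO (e j)) := fun i => by
        refine (TopCat.Presheaf.germ_res_apply ((Scheme.Modules.pullback f).obj M).presheaf
          (homOfLE (inf_le_left : W' ≤ V)) y hyW' (pbRes f M hV (s i))).symm.trans ?_
        refine (congrArg _ ((hrs i).symm.trans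
          (congrArg (pbRes f M hWUO) (hC i).symm))).trans ?_
        simp only [comb, map_sum, ZarCoh.FlatBC.PullbackSections.pbRes_smul]
        refine Finset.sum_congr rfl fun j _ => ?_
        rw [StalkModule.germ_smul]
        congr 1
        · exact (TopCat.Presheaf.germ_res_apply Y.presheaf (homOfLE hWUO) y hyW'
            (f.app _ (A i j))).trans (Scheme.Hom.germ_stalkMap_apply f _ y hx (A i j)).symm
        · rw [pbRes_rs]
      simp only [hexp, Finset.smul_sum, smul_smul, Matrix.vecMul, dotProduct, Finset.sum_smul]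
      exact Finset.sum_comm
    obtain ⟨d, hd⟩ := (hs y hy).2 (∑ j, c j •
      ((Scheme.Modules.pullback f).obj M).presheaf.germ W' y hyW' (pbRes f M hWO (e j)))
    exact ⟨d, (heY y hyW').1 ((hrel d).symm.trans hd)⟩
  refine ⟨X.basicOpen A.det, (X.basicOpen_le _).trans inf_le_left,
    (Scheme.mem_basicOpen X A.det (f y) hx).2 hdet, fun x hxD => ?_⟩
  have hxW : x ∈ U ⊓ O := X.basicOpen_le _ hxD
  have hu : IsUnit (A.map (X.presheaf.germ (U ⊓ O) x hxW)) := by
    rw [Matrix.isUnit_iff_isUnit_det]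
    rw [show (A.map (X.presheaf.germ (U ⊓ O) x hxW)).det = X.presheaf.germ (U ⊓ O) x hxW A.det from
      (RingHom.map_det (X.presheaf.germ (U ⊓ O) x hxW).hom A).symm]
    exact (Scheme.mem_basicOpen X A.det x hxW).1 hxD
  have h2 : (fun c : Fin n → X.presheaf.stalk x => ∑ i, c i •
      M.presheaf.germ (X.basicOpen A.det) x hxD (rs M ((X.basicOpen_le _).trans inf_le_left) (s i))) =
      (fun c => ∑ j, c j • M.presheaf.germ O x hxW.2 (e j)) ∘
        fun c => Matrix.vecMul c (A.map (X.presheaf.germ (U ⊓ O) x hxW)) := by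
    funext c
    refine Eq.trans (Finset.sum_congr rfl fun i _ => ?_) (hgerm x hxW c)
    exact congrArg (c i • ·) (TopCat.Presheaf.germ_res_apply M.presheaf
      (homOfLE ((X.basicOpen_le _).trans inf_le_left)) x hxD (s i))
  rw [h2]
  exact (he x hxW.2).comp ⟨Matrix.vecMul_injective_of_isUnit hu, Matrix.vecMul_surjective_iff_isUnit.2 hu⟩

end Groth.Agent.Lib.Pinch.StalkFrame
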