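import Groth.Agent.Lib.Modules.FreeStalk
import Groth.Agent.Lib.Modules.TensorSec
import Groth.Agent.Lib.DerivedOX.PullbackStalk
import Groth.Agent.Lib.ZarCoh.FlatBC.PullbackSections

/-!
# Frames of modules: families of sections whose germs form bases

A frame of `M` on `U` gives coordinates of the sections of `M` over every open inside `U`, and pulls
back to frames of the inverse images.
-/

set_option autoImplicit false
set_option linter.style.haveILetI false
universe u

open CategoryTheory CategoryTheory.Limits AlgebraicGeometry Opposite TopologicalSpace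
open ZarCoh.FlatBC.PullbackSections
open scoped TensorProduct

namespace Groth.Agent.Lib.Pinch.StalkFrame

open Groth.Agent.Lib.Modules Groth.Agent.Lib.TensorMod.Dual Groth.Agent.Lib.DerivedOX.PullbackStalk

variable {X Y : Scheme.{u}} {M : X.Modules} {n : ℕ} {U V W : X.Opens}

/-- The combination of `e` with coefficients over a smaller open. -/
noncomputable def comb (e : Fin n → Γ(M, U)) (h : W ≤ U) (c : Fin n → Γ(X, W)) : Γ(M, W) :=
  ∑ i, c i • rs M h (e i)

theorem rs_comb (e : Fin n → Γ(M, U)) (h : W ≤ U) (h' : V ≤ W) (c : Fin n → Γ(X, W)) :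
    rs M h' (comb e h c) = comb e (h'.trans h) fun i => rf h' (c i) := by
  simp only [comb, TensorSec.rs_sum, rs_smul, rs_rs]

/-- The germs of `e` form a basis of every stalk over `U`. -/
def IsFrame (M : X.Modules) (U : X.Opens) (e : Fin n → Γ(M, U)) : Prop :=
  ∀ (x : X) (hx : x ∈ U),
    Function.Bijective fun c : Fin n → X.presheaf.stalk x => ∑ i, c i • M.presheaf.germ U x hx (e i)

theorem germ_comb (e : Fin n → Γ(M, U)) (h : W ≤ U) (c : Fin n → Γ(X, W)) {x : X} (hx : x ∈ W) :
    M.presheaf.germ W x hx (comb e h c) =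
      ∑ i, X.presheaf.germ W x hx (c i) • M.presheaf.germ U x (h hx) (e i) := by
  rw [comb, map_sum]
  refine Finset.sum_congr rfl fun i _ => ?_
  rw [StalkModule.germ_smul]
  exact congrArg _ (TopCat.Presheaf.germ_res_apply M.presheaf (homOfLE h) x hx (e i))

theorem comb_injective {e : Fin n → Γ(M, U)} (he : IsFrame M U e) (h : W ≤ U) :
    Function.Injective (comb e h) := fun c c' hc => by
  funext i
  refine TopCat.Presheaf.section_ext X.sheaf W _ _ fun x hx => ?_
  have h1 : (fun i => X.presheaf.germ W x hx (c i)) = fun i => X.presheaf.germ W x hx (c' i) :=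
    (he x (h hx)).1 (((germ_comb e h c hx).symm.trans (congrArg _ hc)).trans (germ_comb e h c' hx))
  exact congrFun h1 i

theorem comb_surjective {e : Fin n → Γ(M, U)} (he : IsFrame M U e) (h : W ≤ U) :
    Function.Surjective (comb e h) := fun s => by
  have hloc : ∀ x : W, ∃ (W' : X.Opens) (hW' : W' ≤ W) (c : Fin n → Γ(X, W')),
      x.1 ∈ W' ∧ comb e (hW'.trans h) c = rs M hW' s := by
    rintro ⟨x, hx⟩
    obtain ⟨c, hc⟩ := (he x (h hx)).2 (M.presheaf.germ W x hx s)
    choose O hxO t ht using fun i => TopCat.Presheaf.exists_germ_eq X.presheaf (c i)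
    let O' : X.Opens := W ⊓ Finset.univ.inf O
    have hxO' : x ∈ O' := by
      refine ⟨hx, ?_⟩
      rw [SetLike.mem_coe, ← SetLike.mem_coe, Opens.coe_finset_inf, Finset.inf_set_eq_iInter]
      simp only [Set.mem_iInter]
      exact fun i _ => hxO i
    have hle : ∀ i, O' ≤ O i := fun i => inf_le_right.trans (Finset.inf_le (Finset.mem_univ i))
    let c' : Fin n → Γ(X, O') := fun i => rf (hle i) (t i)
    have hg : M.presheaf.germ O' x hxO' (comb e ((inf_le_left : O' ≤ W).trans h) c') =
        M.presheaf.germ O' x hxO' (rs M inf_le_left s) := by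
      rw [germ_comb, TopCat.Presheaf.germ_res_apply M.presheaf (homOfLE inf_le_left) x hxO' s]
      refine Eq.trans (Finset.sum_congr rfl fun i _ => ?_) hc
      exact congrArg (· • _)
        ((TopCat.Presheaf.germ_res_apply X.presheaf (homOfLE (hle i)) x hxO' (t i)).trans (ht i))
    obtain ⟨W', hxW', i₁, i₂, hW'⟩ := TopCat.Presheaf.germ_eq M.presheaf x hxO' hxO' _ _ hg
    refine ⟨W', i₁.le.trans inf_le_left, fun i => rf i₁.le (c' i), hxW', ?_⟩
    rw [← rs_comb e ((inf_le_left : O' ≤ W).trans h) i₁.le c',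
      ← rs_rs M (inf_le_left : O' ≤ W) i₁.le s]
    exact hW'
  choose W' hW' c hxW' hc using hloc
  have hcov : W ≤ iSup W' := fun x hx => Opens.mem_iSup.2 ⟨⟨x, hx⟩, hxW' _⟩
  have key : ∀ x y : W, ∀ i, rf (inf_le_left : W' x ⊓ W' y ≤ W' x) (c x i) =
      rf (inf_le_right : W' x ⊓ W' y ≤ W' y) (c y i) := fun x y i => by
    refine congrFun (comb_injective he (inf_le_left.trans ((hW' x).trans h)) (?_ :
      comb e _ (fun i => rf inf_le_left (c x i)) = comb e _ fun i => rf inf_le_right (c y i))) i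
    rw [← rs_comb e ((hW' x).trans h) inf_le_left, hc, rs_rs]
    refine Eq.trans ?_ (rs_comb e ((hW' y).trans h) inf_le_right (c y))
    rw [hc, rs_rs]
  have hex : ∀ i, ∃ t : Γ(X, W), ∀ x, rf (hW' x) t = c x i := fun i => by
    obtain ⟨t, ht, -⟩ := X.sheaf.existsUnique_gluing' W' W (fun x => homOfLE (hW' x)) hcov
      (fun x => c x i) fun x y => key x y i
    exact ⟨t, ht⟩
  choose t ht using hex
  refine ⟨t, TensorSec.section_ext M _ _ fun x hx => ⟨W' ⟨x, hx⟩, hW' _, hxW' _, ?_⟩⟩
  rw [rs_comb, ← hc ⟨x, hx⟩]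
  exact congrArg (comb e _) (funext fun i => ht i _)

/-- A trivialisation gives a frame. -/
theorem exists_isFrame_of_iso (i : M.restrict U.ι ≅ FlatMod.freeMod (↑U) n) :
    ∃ e : Fin n → Γ(M, U), IsFrame M U e := by
  have hU : U ≤ U.ι ''ᵁ ⊤ := fun y hy => ⟨⟨y, hy⟩, trivial, rfl⟩
  let g : Fin n → Γ(M, U.ι ''ᵁ ⊤) := fun j => i.inv.app ⊤ (Free.gen (↑U) j)
  refine ⟨fun j => rs M hU (g j), fun x hx => ?_⟩
  let x' : (U : Scheme.{u}) := ⟨x, hx⟩
  let ε := StalkRestrict.restrictStalkAddEquiv U.ι M x'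
  let b := (FreeStalk.stalkBasis (↑U) n x').map (StalkModule.stalkLinearEquiv i.symm x')
  have hb : ∀ j, ε (b j) = M.presheaf.germ U x hx (rs M hU (g j)) := fun j => by
    rw [Module.Basis.map_apply, FreeStalk.stalkBasis_apply]
    refine (congrArg ε (StalkModule.stalkMapₗ_germ i.inv (U := ⊤) trivial (Free.gen (↑U) j))).trans ?_
    refine (StalkRestrict.restrictStalkAddEquiv_germ U.ι M (U := ⊤) trivial (g j)).trans ?_
    exact (TopCat.Presheaf.germ_res_apply M.presheaf (homOfLE hU) x hx (g j)).symm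
  have hσ : Function.Bijective (U.ι.stalkMap x') :=
    ConcreteCategory.bijective_of_isIso (U.ι.stalkMap x')
  have h1 : (fun c : Fin n → X.presheaf.stalk x => ∑ j, c j • M.presheaf.germ U x hx (rs M hU (g j))) =
      ε ∘ b.equivFun.symm ∘ fun c => U.ι.stalkMap x' ∘ c := by
    funext c
    simp only [Function.comp_apply, Module.Basis.equivFun_symm_apply, map_sum]
    refine Finset.sum_congr rfl fun j _ => ?_
    rw [← hb j]
    exact (StalkRestrict.restrictStalkAddEquiv_smul U.ι M x' (c j) (b j)).symm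
  rw [h1]
  exact ε.bijective.comp (b.equivFun.symm.bijective.comp (Function.Bijective.comp_left hσ))

/-- Finite locally free modules have frames near every point. -/
theorem exists_isFrame (hM : FlatMod.IsFinLocFree M) (x₀ : X) :
    ∃ (U : X.Opens) (n : ℕ) (e : Fin n → Γ(M, U)), x₀ ∈ U ∧ IsFrame M U e := by
  obtain ⟨U, n, hx₀, ⟨i⟩⟩ := hM x₀
  obtain ⟨e, he⟩ := exists_isFrame_of_iso i
  exact ⟨U, n, e, hx₀, he⟩

/-- Frames pull back to frames. -/
theorem IsFrame.pbRes (f : Y ⟶ X) {e : Fin n → Γ(M, U)} (he : IsFrame M U e) {V : Y.Opens}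
    (hV : V ≤ f ⁻¹ᵁ U) :
    IsFrame ((Scheme.Modules.pullback f).obj M) V fun i => pbRes f M hV (e i) := by
  intro x hx
  letI : Algebra (X.presheaf.stalk (f.base x)) (Y.presheaf.stalk x) := (f.stalkMap x).hom.toAlgebra
  let g : Fin n → M.presheaf.stalk (f.base x) := fun i => M.presheaf.germ U (f.base x) (hV hx) (e i)
  have hli : LinearIndependent (X.presheaf.stalk (f.base x)) g :=
    Fintype.linearIndependent_iff.2 fun c hc => congrFun ((he (f.base x) (hV hx)).1
      (a₂ := 0) (hc.trans (by simp)))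
  have hsp : ⊤ ≤ Submodule.span (X.presheaf.stalk (f.base x)) (Set.range g) := fun v _ => by
    obtain ⟨c, rfl⟩ := (he (f.base x) (hV hx)).2 v
    exact Submodule.sum_mem _ fun i _ => Submodule.smul_mem _ _ (Submodule.subset_span ⟨i, rfl⟩)
  let b := (Module.Basis.mk hli hsp).baseChange (Y.presheaf.stalk x)
  let θ := ((comparison f x).app M).hom
  have hθ : Function.Bijective θ := ConcreteCategory.bijective_of_isIso ((comparison f x).app M)
  have hb : ∀ i, θ (b i) =
      ((Scheme.Modules.pullback f).obj M).presheaf.germ V x hx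
        (ZarCoh.FlatBC.PullbackSections.pbRes f M hV (e i)) := fun i => by
    rw [Module.Basis.baseChange_apply, Module.Basis.mk_apply]
    refine (comparison_one_tmul f x M (g i)).trans ?_
    refine (congrArg (pushStalkMap f x _) (StalkModule.stalkMapₗ_germ _ (U := U) (x := f.base x) (hV hx) (e i))).trans ?_
    refine (pushStalkMap_germ f x _ (hV hx) _).trans ?_
    exact (TopCat.Presheaf.germ_res_apply ((Scheme.Modules.pullback f).obj M).presheaf
      (homOfLE hV) x hx _).symm
  have h1 : (fun c : Fin n → Y.presheaf.stalk x => ∑ i, c i •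
      ((Scheme.Modules.pullback f).obj M).presheaf.germ V x hx
        (ZarCoh.FlatBC.PullbackSections.pbRes f M hV (e i))) = θ ∘ b.equivFun.symm := by
    funext c
    simp only [Function.comp_apply, Module.Basis.equivFun_symm_apply]
    refine Eq.trans (Finset.sum_congr rfl fun i _ => ?_) (map_sum θ _ _).symm
    rw [← hb i]
    exact (map_smul θ (c i) (b i)).symm
  rw [h1]
  exact hθ.comp b.equivFun.symm.bijective

theorem rs_pbRes (f : Y ⟶ X) (M : X.Modules) {U : X.Opens} {V V' : Y.Opens} (e : V ≤ f ⁻¹ᵁ U)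
    (h : V' ≤ V) (m : Γ(M, U)) :
    rs ((Scheme.Modules.pullback f).obj M) h (ZarCoh.FlatBC.PullbackSections.pbRes f M e m) =
      ZarCoh.FlatBC.PullbackSections.pbRes f M (h.trans e) m := by
  let P := ((Scheme.Modules.pullback f).obj M).presheaf
  show P.map (homOfLE h).op (P.map (homOfLE e).op _) = P.map (homOfLE (h.trans e)).op _
  rw [← ConcreteCategory.comp_apply, ← P.map_comp]
  rfl

theorem pbRes_rs (f : Y ⟶ X) (M : X.Modules) {U U' : X.Opens} {V : Y.Opens} (h : U' ≤ U)
    (e : V ≤ f ⁻¹ᵁ U') (m : Γ(M, U)) :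
    ZarCoh.FlatBC.PullbackSections.pbRes f M e (rs M h m) =
      ZarCoh.FlatBC.PullbackSections.pbRes f M (e.trans (f.preimage_mono h)) m := by
  let P := ((Scheme.Modules.pullback f).obj M).presheaf
  have h1 := ConcreteCategory.congr_hom
    (((Scheme.Modules.pullbackPushforwardAdjunction f).unit.app M).mapPresheaf.naturality (homOfLE h).op) m
  show P.map (homOfLE e).op _ = P.map (homOfLE (e.trans (f.preimage_mono h))).op _
  refine (congrArg (P.map (homOfLE e).op) h1).trans ?_
  show P.map _ (P.map _ _) = _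
  rw [← ConcreteCategory.comp_apply, ← P.map_comp]
  rfl

end Groth.Agent.Lib.Pinch.StalkFrame
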