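import Groth.Agent.Lib.Pinch.RingedPushout
import Groth.Agent.Lib.Ferrand.Topology
import Mathlib.AlgebraicGeometry.PullbackCarrier

/-!
# Glued Ferrand squares are pushouts of ringed spaces
-/

universe u

open CategoryTheory Limits AlgebraicGeometry TopologicalSpace Opposite

namespace Groth.Agent.Lib.Pinch.RingedPushout

noncomputable section

variable {X Y Z P : Scheme.{u}} {i : Z ⟶ X} {j : Z ⟶ Y} {a : X ⟶ P} {b : Y ⟶ P}

set_option backward.isDefEq.respectTransparency false in
/-- Points of `X` with the same image in an affine Ferrand square are equal or glued. -/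
theorem affSq_eq_or_exists (h : Ferrand.AffSq i j a b) {x x' : X} (hx : a x = a x') :
    x = x' ∨ ∃ z z', i z = x ∧ i z' = x' ∧ j z = j z' := by
  have := h.affX; have := h.affY; have := h.affP; have := h.affZ
  have hinj : ∀ {T : Scheme.{u}} [IsAffine T], Function.Injective T.isoSpec.hom := fun {T} _ =>
    T.isoSpec.hom.isOpenEmbedding.injective
  have hx' : PrimeSpectrum.comap a.appTop.hom (X.isoSpec.hom x) =
      PrimeSpectrum.comap a.appTop.hom (X.isoSpec.hom x') := by
    rw [← Ferrand.AffSq.isoSpec_apply a x, ← Ferrand.AffSq.isoSpec_apply a x', hx]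
  rcases h.sq.eq_or_exists_of_comap_eq hx' with e | ⟨z, z', hz, hz', hzz⟩
  · exact Or.inl (hinj e)
  · obtain ⟨z, rfl⟩ := Z.isoSpec.hom.homeomorph.surjective z
    obtain ⟨z', rfl⟩ := Z.isoSpec.hom.homeomorph.surjective z'
    refine Or.inr ⟨z, z', hinj ?_, hinj ?_, hinj ?_⟩
    · rw [Ferrand.AffSq.isoSpec_apply i z]; exact hz
    · rw [Ferrand.AffSq.isoSpec_apply i z']; exact hz'
    · rw [Ferrand.AffSq.isoSpec_apply j z, Ferrand.AffSq.isoSpec_apply j z']; exact hzz

variable [IsClosedImmersion i] (h : Ferrand.GluedBy i j a b)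
include h

theorem eq_or_exists {x x' : X} (hx : a x = a x') :
    x = x' ∨ ∃ z z', i z = x ∧ i z' = x' ∧ j z = j z' := by
  obtain ⟨O, hO, hxO, -⟩ := exists_isAffineOpen_mem_and_subset (x := a x) (U := ⊤) trivial
  have e : i ⁻¹ᵁ (a ⁻¹ᵁ O) ≤ j ⁻¹ᵁ (b ⁻¹ᵁ O) := by
    rw [← Scheme.Hom.comp_preimage, ← Scheme.Hom.comp_preimage, h.isPushout.w]
  have hxO' : a x' ∈ O := hx ▸ hxO
  rcases affSq_eq_or_exists (h.affSq_restrict O hO e)
      (x := ⟨x, hxO⟩) (x' := ⟨x', hxO'⟩) (Subtype.ext (by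
        rw [Scheme.Hom.coe_resLE_apply, Scheme.Hom.coe_resLE_apply]; exact hx)) with
    e' | ⟨z, z', h1, h2, h3⟩
  · exact Or.inl congr(($e').1)
  · refine Or.inr ⟨z.1, z'.1, ?_, ?_, ?_⟩
    · exact (Scheme.Hom.coe_resLE_apply i _ z).symm.trans congr(($h1).1)
    · exact (Scheme.Hom.coe_resLE_apply i _ z').symm.trans congr(($h2).1)
    · exact (Scheme.Hom.coe_resLE_apply j _ z).symm.trans
        (congr(($h3).1).trans (Scheme.Hom.coe_resLE_apply j _ z'))

theorem exists_of_eq {x : X} {y : Y} (hxy : a x = b y) : ∃ z, i z = x ∧ j z = y :=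
  Scheme.exists_preimage_of_isPullback h.isPullback x y hxy

omit h in
/-- Agreement of sections on the corner. -/
def AgreeS (i : Z ⟶ X) (j : Z ⟶ Y) {U : X.Opens} {V : Y.Opens} (x : Γ(X, U)) (y : Γ(Y, V)) : Prop :=
  ∀ (W : Z.Opens) (h₁ : W ≤ i ⁻¹ᵁ U) (h₂ : W ≤ j ⁻¹ᵁ V), i.appLE U W h₁ x = j.appLE V W h₂ y

omit h [IsClosedImmersion i] in
lemma AgreeS.restrict {U U' : X.Opens} {V V' : Y.Opens} {x : Γ(X, U)} {y : Γ(Y, V)}
    (hxy : AgreeS i j x y) (hU : U' ≤ U) (hV : V' ≤ V) :
    AgreeS i j (X.presheaf.map (homOfLE hU).op x) (Y.presheaf.map (homOfLE hV).op y) :=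
  fun W h₁ h₂ => by
    rw [← CommRingCat.comp_apply, ← CommRingCat.comp_apply, Scheme.Hom.map_appLE, Scheme.Hom.map_appLE]
    exact hxy W _ _

omit h [IsClosedImmersion i] in
lemma app_res {A B : Scheme.{u}} (f : A ⟶ B) {U V : B.Opens} (hVU : V ≤ U) (s : Γ(B, U)) :
    f.app V (B.presheaf.map (homOfLE hVU).op s) =
      A.presheaf.map (homOfLE (Scheme.Hom.preimage_mono f hVU)).op (f.app U s) :=
  congr($(f.naturality (homOfLE hVU).op) s)

theorem affine_section {O : P.Opens} (hO : IsAffineOpen O) :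
    (∀ s s' : Γ(P, O), a.app O s = a.app O s' → b.app O s = b.app O s' → s = s') ∧
      ∀ (x : Γ(X, a ⁻¹ᵁ O)) (y : Γ(Y, b ⁻¹ᵁ O)), AgreeS i j x y →
        ∃ s, a.app O s = x ∧ b.app O s = y := by
  have e : i ⁻¹ᵁ (a ⁻¹ᵁ O) ≤ j ⁻¹ᵁ (b ⁻¹ᵁ O) := by
    rw [← Scheme.Hom.comp_preimage, ← Scheme.Hom.comp_preimage, h.isPushout.w]
  have hA := (h.affSq_restrict O hO e).sq
  have ha : ∀ s, (a.resLE O (a ⁻¹ᵁ O) le_rfl).appTop.hom (O.topIso.inv.hom s) =
      (a ⁻¹ᵁ O).topIso.inv.hom (a.app O s) := fun s => by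
    rw [resLE_appTop_topIso, Scheme.Hom.app_eq_appLE]
  have hb : ∀ s, (b.resLE O (b ⁻¹ᵁ O) le_rfl).appTop.hom (O.topIso.inv.hom s) =
      (b ⁻¹ᵁ O).topIso.inv.hom (b.app O s) := fun s => by
    rw [resLE_appTop_topIso, Scheme.Hom.app_eq_appLE]
  constructor
  · intro s s' h1 h2
    refine O.topIso.commRingCatIsoToRingEquiv.symm.injective (hA.ext _ _ ?_ ?_)
    · exact (hb s).trans ((congrArg _ h2).trans (hb s').symm)
    · exact (ha s).trans ((congrArg _ h1).trans (ha s').symm)
  · intro x y hxy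
    obtain ⟨s, h1, h2⟩ := hA.lift ((b ⁻¹ᵁ O).topIso.inv.hom y) ((a ⁻¹ᵁ O).topIso.inv.hom x) (by
      rw [resLE_appTop_topIso, resLE_appTop_topIso]
      exact congrArg _ (hxy _ le_rfl e).symm)
    obtain ⟨s, rfl⟩ := O.topIso.commRingCatIsoToRingEquiv.symm.surjective s
    refine ⟨s, (a ⁻¹ᵁ O).topIso.commRingCatIsoToRingEquiv.symm.injective ?_,
      (b ⁻¹ᵁ O).topIso.commRingCatIsoToRingEquiv.symm.injective ?_⟩
    · exact (ha s).symm.trans h2
    · exact (hb s).symm.trans h1

theorem section_ext {O : P.Opens} {s s' : Γ(P, O)} (h₁ : a.app O s = a.app O s')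
    (h₂ : b.app O s = b.app O s') : s = s' := by
  refine TopCat.Sheaf.eq_of_locally_eq' P.sheaf (fun W : {W : P.Opens // IsAffineOpen W ∧ W ≤ O} => W.1)
    O (fun W => homOfLE W.2.2) (fun p hp => ?_) s s' fun W => ?_
  · obtain ⟨W, hW, hpW, hle⟩ := exists_isAffineOpen_mem_and_subset (x := p) (U := O) hp
    exact Opens.mem_iSup.mpr ⟨⟨W, hW, hle⟩, hpW⟩
  · refine (affine_section h W.2.1).1 _ _ ?_ ?_
    · exact (app_res a W.2.2 s).trans ((congrArg _ h₁).trans (app_res a W.2.2 s').symm)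
    · exact (app_res b W.2.2 s).trans ((congrArg _ h₂).trans (app_res b W.2.2 s').symm)

theorem exists_section {O : P.Opens} (x : Γ(X, a ⁻¹ᵁ O)) (y : Γ(Y, b ⁻¹ᵁ O)) (hxy : AgreeS i j x y) :
    ∃ s, a.app O s = x ∧ b.app O s = y := by
  let J := {W : P.Opens // IsAffineOpen W ∧ W ≤ O}
  have hcov : O ≤ ⨆ W : J, W.1 := fun p hp => by
    obtain ⟨W, hW, hpW, hle⟩ := exists_isAffineOpen_mem_and_subset (x := p) (U := O) hp
    exact Opens.mem_iSup.mpr ⟨⟨W, hW, hle⟩, hpW⟩
  choose t ht₁ ht₂ using fun W : J => (affine_section h W.2.1).2 _ _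
    (hxy.restrict (Scheme.Hom.preimage_mono a W.2.2) (Scheme.Hom.preimage_mono b W.2.2))
  obtain ⟨s, hs, -⟩ := TopCat.Sheaf.existsUnique_gluing' P.sheaf (fun W : J => W.1) O
    (fun W => homOfLE W.2.2) hcov t fun W W' => by
      refine section_ext h ?_ ?_
      · refine (app_res a inf_le_left _).trans (Eq.trans ?_ (app_res a inf_le_right _).symm)
        rw [ht₁, ht₁, ← CommRingCat.comp_apply, ← CommRingCat.comp_apply, ← X.presheaf.map_comp,
          ← X.presheaf.map_comp]
        rfl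
      · refine (app_res b inf_le_left _).trans (Eq.trans ?_ (app_res b inf_le_right _).symm)
        rw [ht₂, ht₂, ← CommRingCat.comp_apply, ← CommRingCat.comp_apply, ← Y.presheaf.map_comp,
          ← Y.presheaf.map_comp]
        rfl
  refine ⟨s, ?_, ?_⟩
  · refine TopCat.Sheaf.eq_of_locally_eq' X.sheaf (fun W : J => a ⁻¹ᵁ W.1) _
      (fun W => homOfLE (Scheme.Hom.preimage_mono a W.2.2)) (fun p hp => ?_) _ _ fun W => ?_
    · obtain ⟨W, hW⟩ := Opens.mem_iSup.mp (hcov hp)
      exact Opens.mem_iSup.mpr ⟨W, hW⟩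
    · exact (app_res a W.2.2 s).symm.trans ((congrArg (a.app W.1) (hs W)).trans (ht₁ W))
  · refine TopCat.Sheaf.eq_of_locally_eq' Y.sheaf (fun W : J => b ⁻¹ᵁ W.1) _
      (fun W => homOfLE (Scheme.Hom.preimage_mono b W.2.2)) (fun p hp => ?_) _ _ fun W => ?_
    · obtain ⟨W, hW⟩ := Opens.mem_iSup.mp (hcov hp)
      exact Opens.mem_iSup.mpr ⟨W, hW⟩
    · exact (app_res b W.2.2 s).symm.trans ((congrArg (b.app W.1) (hs W)).trans (ht₂ W))

theorem exists_base {T : TopCat.{u}} (fX : X.toPresheafedSpace.carrier ⟶ T)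
    (fY : Y.toPresheafedSpace.carrier ⟶ T) (hf : ∀ z, fX (i z) = fY (j z)) :
    ∃ f : P.toPresheafedSpace.carrier ⟶ T, (∀ x, f (a x) = fX x) ∧ ∀ y, f (b y) = fY y := by
  classical
  have hb := h.isClosedImmersion_right
  let g : P → T := fun p => if hp : ∃ x, a x = p then fX hp.choose else
    fY ((h.surj p).resolve_left hp).choose
  have hga : ∀ x, g (a x) = fX x := fun x => by
    have hp : ∃ x', a x' = a x := ⟨x, rfl⟩
    rw [show g (a x) = fX hp.choose from dif_pos hp]
    rcases eq_or_exists h hp.choose_spec with e | ⟨z, z', hz, hz', hzz⟩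
    · rw [e]
    · rw [← hz, ← hz', hf, hf, hzz]
  have hgb : ∀ y, g (b y) = fY y := fun y => by
    by_cases hp : ∃ x, a x = b y
    · rw [show g (b y) = fX hp.choose from dif_pos hp]
      obtain ⟨z, hz, hz'⟩ := exists_of_eq h hp.choose_spec
      rw [← hz, hf, hz']
    · rw [show g (b y) = fY _ from dif_neg hp,
        b.isClosedEmbedding.injective ((h.surj (b y)).resolve_left hp).choose_spec]
  have hg : Continuous g := continuous_def.mpr fun V hV => by
    rw [isOpen_iff_forall_mem_open]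
    intro p hp
    obtain ⟨O, hO, hpO, -⟩ := exists_isAffineOpen_mem_and_subset (x := p) (U := ⊤) trivial
    have e : i ⁻¹ᵁ (a ⁻¹ᵁ O) ≤ j ⁻¹ᵁ (b ⁻¹ᵁ O) := by
      rw [← Scheme.Hom.comp_preimage, ← Scheme.Hom.comp_preimage, h.isPushout.w]
    let UX : (a ⁻¹ᵁ O).toScheme.Opens :=
      ⟨{x | fX x.1 ∈ V}, hV.preimage (fX.hom.continuous.comp continuous_subtype_val)⟩
    let VY : (b ⁻¹ᵁ O).toScheme.Opens :=
      ⟨{y | fY y.1 ∈ V}, hV.preimage (fY.hom.continuous.comp continuous_subtype_val)⟩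
    obtain ⟨O', hO'a, hO'b⟩ := (h.affSq_restrict O hO e).exists_opens UX VY (by
      ext z
      show fX (i.resLE _ _ le_rfl z).1 ∈ V ↔ fY (j.resLE _ _ e z).1 ∈ V
      rw [Scheme.Hom.coe_resLE_apply, Scheme.Hom.coe_resLE_apply, hf])
    have key : ∀ q : O.toScheme, q ∈ O' ↔ g q.1 ∈ V := fun q => by
      rcases (h.affSq_restrict O hO e).exists_preimage q with ⟨x, rfl⟩ | ⟨y, rfl⟩
      · rw [Scheme.Hom.coe_resLE_apply, hga]
        exact SetLike.ext_iff.mp hO'a x
      · rw [Scheme.Hom.coe_resLE_apply, hgb]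
        exact SetLike.ext_iff.mp hO'b y
    refine ⟨(O.ι ''ᵁ O' : Set P), ?_, (O.ι ''ᵁ O').isOpen, ⟨⟨p, hpO⟩, (key _).mpr hp, rfl⟩⟩
    rintro _ ⟨q, hq, rfl⟩
    exact (key q).mp hq
  exact ⟨TopCat.ofHom ⟨g, hg⟩, hga, hgb⟩

omit h [IsClosedImmersion i] in
lemma map_map_eq {W : Scheme.{u}} {A B B' C : W.Opensᵒᵖ} (f : A ⟶ B) (g : B ⟶ C) (f' : A ⟶ B')
    (g' : B' ⟶ C) (x : W.presheaf.obj A) :
    W.presheaf.map g (W.presheaf.map f x) = W.presheaf.map g' (W.presheaf.map f' x) := by
  rw [← CommRingCat.comp_apply, ← CommRingCat.comp_apply, ← Functor.map_comp, ← Functor.map_comp]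
  rfl

/-- A glued Ferrand square is a pushout of presheafed spaces. -/
theorem isPushout_pshSpace : IsPushout i.toPshHom j.toPshHom a.toPshHom b.toPshHom := by
  have hw : i.toPshHom ≫ a.toPshHom = j.toPshHom ≫ b.toPshHom :=
    congrArg (fun f : Z ⟶ P => f.toPshHom) h.isPushout.w
  have key : ∀ s : PushoutCocone i.toPshHom j.toPshHom, ∃ m : P.toPresheafedSpace ⟶ s.pt,
      a.toPshHom ≫ m = s.inl ∧ b.toPshHom ≫ m = s.inr ∧
      ∀ m', a.toPshHom ≫ m' = s.inl → b.toPshHom ≫ m' = s.inr → m' = m := fun s => by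
    obtain ⟨f, hfa, hfb⟩ := exists_base h s.inl.base s.inr.base fun z => congr(($s.condition).base z)
    have eX : ∀ V : Opens s.pt.carrier, a ⁻¹ᵁ (Opens.map f).obj V = (Opens.map s.inl.base).obj V :=
      fun V => by ext x; exact iff_of_eq (congrArg (· ∈ V) (hfa x))
    have eY : ∀ V : Opens s.pt.carrier, b ⁻¹ᵁ (Opens.map f).obj V = (Opens.map s.inr.base).obj V :=
      fun V => by ext y; exact iff_of_eq (congrArg (· ∈ V) (hfb y))
    let xV : ∀ V : (Opens s.pt.carrier)ᵒᵖ, s.pt.presheaf.obj V ⟶ Γ(X, a ⁻¹ᵁ (Opens.map f).obj V.unop) :=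
      fun V => s.inl.c.app V ≫ X.presheaf.map (eqToHom (eX V.unop)).op
    let yV : ∀ V : (Opens s.pt.carrier)ᵒᵖ, s.pt.presheaf.obj V ⟶ Γ(Y, b ⁻¹ᵁ (Opens.map f).obj V.unop) :=
      fun V => s.inr.c.app V ≫ Y.presheaf.map (eqToHom (eY V.unop)).op
    have hag : ∀ V t, AgreeS i j (xV V t) (yV V t) := fun V t W h₁ h₂ => by
      have e := congr($(PresheafedSpace.congr_app s.condition V) t)
      simp only [PresheafedSpace.comp_c_app, CommRingCat.comp_apply] at e
      simp only [xV, yV, CommRingCat.comp_apply]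
      rw [← CommRingCat.comp_apply _ (i.appLE _ W h₁), ← CommRingCat.comp_apply _ (j.appLE _ W h₂),
        Scheme.Hom.map_appLE, Scheme.Hom.map_appLE, Scheme.Hom.appLE, Scheme.Hom.appLE,
        CommRingCat.comp_apply, CommRingCat.comp_apply]
      refine (congrArg (Z.presheaf.map _) e).trans ?_
      exact (congr($(Z.presheaf.map_comp _ _) _)).symm
    choose σ hσa hσb using fun V t => exists_section h (xV V t) (yV V t) (hag V t)
    let C : ∀ V : (Opens s.pt.carrier)ᵒᵖ, s.pt.presheaf.obj V ⟶ Γ(P, (Opens.map f).obj V.unop) :=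
      fun V => CommRingCat.ofHom
        { toFun := σ V
          map_one' := section_ext h (by simp [hσa]) (by simp [hσb])
          map_mul' := fun t t' => section_ext h (by simp [hσa]) (by simp [hσb])
          map_zero' := section_ext h (by simp [hσa]) (by simp [hσb])
          map_add' := fun t t' => section_ext h (by simp [hσa]) (by simp [hσb]) }
    let m : P.toPresheafedSpace ⟶ s.pt :=
      { base := f
        c :=
          { app := C
            naturality := fun V V' r => by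
              refine CommRingCat.hom_ext (RingHom.ext fun t => section_ext h ?_ ?_)
              · refine (hσa V' _).trans (Eq.trans ?_ (app_res a
                  (leOfHom ((Opens.map f).map r.unop)) (σ V t)).symm)
                rw [hσa]
                simp only [xV, CommRingCat.comp_apply]
                refine (congrArg (X.presheaf.map _) (congr($(s.inl.c.naturality r) t))).trans ?_
                exact map_map_eq _ _ _ _ _
              · refine (hσb V' _).trans (Eq.trans ?_ (app_res b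
                  (leOfHom ((Opens.map f).map r.unop)) (σ V t)).symm)
                rw [hσb]
                simp only [yV, CommRingCat.comp_apply]
                refine (congrArg (Y.presheaf.map _) (congr($(s.inr.c.naturality r) t))).trans ?_
                exact map_map_eq _ _ _ _ _ } }
    refine ⟨m, ?_, ?_, fun m' ha hb => ?_⟩
    · refine PresheafedSpace.ext _ _ (TopCat.ext hfa) (NatTrans.ext (funext fun V =>
        CommRingCat.hom_ext (RingHom.ext fun t => ?_)))
      refine (congrArg (X.presheaf.map _) (hσa V t)).trans ?_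
      exact map_map_endo _ _ _
    · refine PresheafedSpace.ext _ _ (TopCat.ext hfb) (NatTrans.ext (funext fun V =>
        CommRingCat.hom_ext (RingHom.ext fun t => ?_)))
      refine (congrArg (Y.presheaf.map _) (hσb V t)).trans ?_
      exact map_map_endo _ _ _
    · have hbase : m'.base = f := TopCat.ext fun p => by
        rcases h.surj p with ⟨x, rfl⟩ | ⟨y, rfl⟩
        · exact (congr(($ha).base x)).trans (hfa x).symm
        · exact (congr(($hb).base y)).trans (hfb y).symm
      refine PresheafedSpace.ext _ _ hbase (NatTrans.ext (funext fun V =>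
        CommRingCat.hom_ext (RingHom.ext fun t => section_ext h ?_ ?_)))
      · refine Eq.trans ?_ (hσa V t).symm
        refine (app_res a _ _).trans ?_
        have e := congr($(PresheafedSpace.congr_app ha V) t)
        simp only [PresheafedSpace.comp_c_app, CommRingCat.comp_apply] at e
        refine (congrArg (X.presheaf.map _) e).trans ?_
        simp only [xV, CommRingCat.comp_apply]
        exact (congr($(X.presheaf.map_comp _ _) _)).symm
      · refine Eq.trans ?_ (hσb V t).symm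
        refine (app_res b _ _).trans ?_
        have e := congr($(PresheafedSpace.congr_app hb V) t)
        simp only [PresheafedSpace.comp_c_app, CommRingCat.comp_apply] at e
        refine (congrArg (Y.presheaf.map _) e).trans ?_
        simp only [yV, CommRingCat.comp_apply]
        exact (congr($(Y.presheaf.map_comp _ _) _)).symm
  choose m h₁ h₂ h₃ using key
  exact ⟨⟨hw⟩, ⟨PushoutCocone.IsColimit.mk _ m h₁ h₂ fun s m' e₁ e₂ => h₃ s m' e₁ e₂⟩⟩

/-- A glued Ferrand square is a pushout of ringed spaces. -/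
theorem isPushout_toSS : IsPushout (toSS.map i) (toSS.map j) (toSS.map a) (toSS.map b) :=
  IsPushout.of_map SheafedSpace.forgetToPresheafedSpace
    (by rw [← Functor.map_comp, ← Functor.map_comp, h.isPushout.w]) (isPushout_pshSpace h)

omit h in
/-- A pushout of schemes along a closed immersion with affine legs is glued from Ferrand squares. -/
theorem gluedBy_of_isPushout [IsAffineHom a] [IsClosedImmersion b] (hP : IsPushout i j a b) :
    Ferrand.GluedBy i j a b := by
  refine Ferrand.GluedBy.of_isPushout (fun y => ?_) hP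
  obtain ⟨O, hO, hy, -⟩ := exists_isAffineOpen_mem_and_subset (x := b y) (U := ⊤) trivial
  refine ⟨⟨a ⁻¹ᵁ O, b ⁻¹ᵁ O, hO.preimage a, hO.preimage b, ?_⟩, hy⟩
  rw [← Scheme.Hom.comp_preimage, ← Scheme.Hom.comp_preimage, hP.w]

end

end Groth.Agent.Lib.Pinch.RingedPushout
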