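import Groth.Agent.Lib.Modules.AffineSections
import Groth.Agent.Lib.ZarCoh.FlatBC.PullbackSections
import Groth.Agent.Lib.DerivedOX.Amplitude
import Groth.Agent.Lib.TensorMod.LocFree
import Groth.Agent.Lib.Modules.SupportOps
import Groth.Agent.H48.MilGlue
import Mathlib.AlgebraicGeometry.Morphisms.ClosedImmersion

/-!
# Quasi-coherent modules on pinching squares

For `f : X → Y` affine and `u : Y' → Y` a closed immersion such that on affines `O_Y` is the fibre
product of `u_* O_{Y'}` and `f_* O_X` (`Cond`), vanishing, flatness, finite type and finite local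
freeness of a quasi-coherent module are detected by the two pullbacks.
-/

universe u

open CategoryTheory Limits AlgebraicGeometry TensorProduct Groth.Agent.Lib
open Groth.Agent.Lib.Modules.AffineSections

namespace Groth.Agent.Lib.Pinch

set_option linter.style.haveILetI false

/-- The ring-level pinching condition. -/
def Cond {R B S : Type u} [CommRing R] [CommRing B] [CommRing S] (ρ : R →+* B) (σ : R →+* S) : Prop :=
  Function.Surjective ρ ∧ RingHom.ker σ ⊓ RingHom.ker ρ = ⊥ ∧
    ∀ a ∈ Ideal.map σ (RingHom.ker ρ), ∃ i ∈ RingHom.ker ρ, σ i = a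

/-- A pinching condition gives a fibre square. -/
theorem Cond.elim {R B S : Type u} [CommRing R] [CommRing B] [CommRing S] [Algebra R B] [Algebra R S]
    (h : Cond (algebraMap R B) (algebraMap R S)) {P : Prop}
    (k : ∀ (A : Type u) [CommRing A] [Algebra R A] [Algebra B A] [Algebra S A]
      [IsScalarTower R B A] [IsScalarTower R S A], EtMil.IsFibreSquare R B S A → P) : P := by
  obtain ⟨hρ, h0, h1⟩ := h
  let J : Ideal S := (RingHom.ker (algebraMap R B)).map (algebraMap R S)
  let q : R →+* S ⧸ J := algebraMap R (S ⧸ J)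
  have hq : RingHom.ker (algebraMap R B) ≤ RingHom.ker q := fun r hr =>
    Ideal.Quotient.eq_zero_iff_mem.mpr (Ideal.mem_map_of_mem _ hr)
  let β : B →+* S ⧸ J := (algebraMap R B).liftOfSurjective hρ ⟨q, hq⟩
  have hβ : ∀ r, β (algebraMap R B r) = q r := RingHom.liftOfSurjective_comp_apply _ hρ ⟨q, hq⟩
  letI : Algebra B (S ⧸ J) := β.toAlgebra
  haveI : IsScalarTower R B (S ⧸ J) := IsScalarTower.of_algebraMap_eq fun r => (hβ r).symm
  refine k (S ⧸ J) ⟨Ideal.Quotient.mk_surjective, fun b s hbs => ?_⟩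
  obtain ⟨r, rfl⟩ := hρ b
  have hs : algebraMap R S r - s ∈ J := by
    refine Ideal.Quotient.eq.mp ?_
    exact ((hβ r).symm.trans hbs : _)
  obtain ⟨i, hi, hi'⟩ := h1 _ hs
  refine ⟨r - i, ⟨by rw [map_sub, RingHom.mem_ker.mp hi, sub_zero], by rw [map_sub, hi', sub_sub_cancel]⟩, ?_⟩
  rintro y ⟨hy1, hy2⟩
  refine sub_eq_zero.mp ((Submodule.mem_bot R).mp (h0.le ⟨?_, ?_⟩))
  · show algebraMap R S (y - (r - i)) = 0
    rw [map_sub, hy2, map_sub, hi', sub_sub_cancel, sub_self]
  · show algebraMap R B (y - (r - i)) = 0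
    rw [map_sub, hy1, map_sub, RingHom.mem_ker.mp hi, sub_zero, sub_self]

variable {X Y Y' : Scheme.{u}} (f : X ⟶ Y) (u : Y' ⟶ Y) [IsAffineHom f] [IsClosedImmersion u]
  (hM : ∀ V ∈ Y.affineOpens,
    RingHom.ker (f.app V).hom ⊓ RingHom.ker (u.app V).hom = ⊥ ∧
      ∀ a ∈ Ideal.map (f.app V).hom (RingHom.ker (u.app V).hom),
        ∃ i ∈ RingHom.ker (u.app V).hom, (f.app V).hom i = a)
  (G : Y.Modules) [G.IsQuasicoherent]

/-- Sections of a pullback over the preimage of an affine open. -/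
noncomputable def pbEquiv {T : Scheme.{u}} (g : T ⟶ Y) [IsAffineHom g] {V : Y.Opens} (hV : IsAffineOpen V) :
    letI := (g.app V).hom.toAlgebra
    Γ(T, g ⁻¹ᵁ V) ⊗[Γ(Y, V)] Γ(G, V) ≃ₗ[Γ(T, g ⁻¹ᵁ V)] Γ((Scheme.Modules.pullback g).obj G, g ⁻¹ᵁ V) :=
  letI := (g.app V).hom.toAlgebra
  have he : g.appLE V (g ⁻¹ᵁ V) le_rfl = g.app V := (g.app_eq_appLE).symm
  he ▸ LinearEquiv.ofBijective (ZarCoh.FlatBC.PullbackSections.pbTensor g G (U := V) le_rfl)
    (ZarCoh.FlatBC.PullbackSections.bijective_pbTensor g G hV (hV.preimage g) le_rfl)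

include hM in
theorem cond {V : Y.Opens} (hV : IsAffineOpen V) : Cond (u.app V).hom (f.app V).hom :=
  ⟨u.app_surjective V hV, hM V hV⟩

theorem exists_affine (x : Y) : ∃ V : Y.Opens, IsAffineOpen V ∧ x ∈ V := by
  obtain ⟨V, hV, hx, -⟩ := exists_isAffineOpen_mem_and_subset (X := Y) (x := x) (U := ⊤) trivial
  exact ⟨V, hV, hx⟩

include hM in
theorem isZero_of_pullback (h1 : IsZero ((Scheme.Modules.pullback u).obj G))
    (h2 : IsZero ((Scheme.Modules.pullback f).obj G)) : IsZero G := by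
  refine isZero_of_sections fun x => ?_
  obtain ⟨V, hV, hx⟩ := exists_affine x
  refine ⟨V, hV, hx, ?_⟩
  letI := (u.app V).hom.toAlgebra
  letI := (f.app V).hom.toAlgebra
  haveI := subsingleton_sections h1 (u ⁻¹ᵁ V)
  haveI := subsingleton_sections h2 (f ⁻¹ᵁ V)
  haveI := (pbEquiv G u hV).toEquiv.subsingleton
  haveI := (pbEquiv G f hV).toEquiv.subsingleton
  exact Cond.elim (cond f u hM hV) fun A _ _ _ _ _ _ hsq => H48.Mil.subsingleton_of_baseChange hsq Γ(G, V)

include hM in
theorem isFlat_of_pullback (h1 : FlatMod.IsFlat ((Scheme.Modules.pullback u).obj G))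
    (h2 : FlatMod.IsFlat ((Scheme.Modules.pullback f).obj G)) : FlatMod.IsFlat G := by
  refine isFlat_of_sections fun x => ?_
  obtain ⟨V, hV, hx⟩ := exists_affine x
  refine ⟨V, hV, hx, ?_⟩
  letI := (u.app V).hom.toAlgebra
  letI := (f.app V).hom.toAlgebra
  haveI := QCoh.Pullback.isQCoh_pullback u G
  haveI := QCoh.Pullback.isQCoh_pullback f G
  haveI := flat_sections h1 (hV.preimage u)
  haveI := flat_sections h2 (hV.preimage f)
  haveI := Module.Flat.of_linearEquiv (pbEquiv G u hV)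
  haveI := Module.Flat.of_linearEquiv (pbEquiv G f hV)
  exact Cond.elim (cond f u hM hV) fun A _ _ _ _ _ _ hsq => H48.Mil.flat_of_baseChange hsq Γ(G, V)

include hM in
theorem isFiniteType_of_pullback (h1 : SheafOfModules.IsFiniteType (R := Y'.ringCatSheaf) ((Scheme.Modules.pullback u).obj G))
    (h2 : SheafOfModules.IsFiniteType (R := X.ringCatSheaf) ((Scheme.Modules.pullback f).obj G)) :
    SheafOfModules.IsFiniteType (R := Y.ringCatSheaf) G := by
  refine CohBasics.Affine.isFiniteType_of_finite_sections fun x => ?_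
  obtain ⟨V, hV, hx⟩ := exists_affine x
  refine ⟨V, hV, hx, ?_⟩
  letI := (u.app V).hom.toAlgebra
  letI := (f.app V).hom.toAlgebra
  haveI := QCoh.Pullback.isQCoh_pullback u G
  haveI := QCoh.Pullback.isQCoh_pullback f G
  haveI := h1
  haveI := h2
  haveI := CohBasics.Affine.finite_sections (M := (Scheme.Modules.pullback u).obj G) (hV.preimage u)
  haveI := CohBasics.Affine.finite_sections (M := (Scheme.Modules.pullback f).obj G) (hV.preimage f)
  haveI := Module.Finite.equiv (pbEquiv G u hV).symm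
  haveI := Module.Finite.equiv (pbEquiv G f hV).symm
  exact Cond.elim (cond f u hM hV) fun A _ _ _ _ _ _ hsq => H48.Mil.finite_of_baseChange hsq Γ(G, V)

include hM in
theorem isFinLocFree_of_pullback (h1 : FlatMod.IsFinLocFree ((Scheme.Modules.pullback u).obj G))
    (h2 : FlatMod.IsFinLocFree ((Scheme.Modules.pullback f).obj G)) : FlatMod.IsFinLocFree G := by
  refine isFinLocFree_of_sections fun x => ?_
  obtain ⟨V, hV, hx⟩ := exists_affine x
  letI := (u.app V).hom.toAlgebra
  letI := (f.app V).hom.toAlgebra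
  haveI := QCoh.Pullback.isQCoh_pullback u G
  haveI := QCoh.Pullback.isQCoh_pullback f G
  obtain ⟨hu1, hu2⟩ := finite_projective_sections h1 (hV.preimage u)
  obtain ⟨hf1, hf2⟩ := finite_projective_sections h2 (hV.preimage f)
  haveI := Module.Finite.equiv (pbEquiv G u hV).symm
  haveI := Module.Finite.equiv (pbEquiv G f hV).symm
  haveI := Module.Projective.of_equiv (pbEquiv G u hV).symm
  haveI := Module.Projective.of_equiv (pbEquiv G f hV).symm
  haveI := Module.finitePresentation_of_projective Γ(Y', u ⁻¹ᵁ V) (Γ(Y', u ⁻¹ᵁ V) ⊗[Γ(Y, V)] Γ(G, V))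
  haveI := Module.finitePresentation_of_projective Γ(X, f ⁻¹ᵁ V) (Γ(X, f ⁻¹ᵁ V) ⊗[Γ(Y, V)] Γ(G, V))
  have h : Module.FinitePresentation Γ(Y, V) Γ(G, V) ∧ Module.Flat Γ(Y, V) Γ(G, V) :=
    Cond.elim (cond f u hM hV) fun A _ _ _ _ _ _ hsq =>
      ⟨H48.Mil.finitePresentation_of_baseChange hsq Γ(G, V), H48.Mil.flat_of_baseChange hsq Γ(G, V)⟩
  haveI := h.1
  haveI := h.2
  exact ⟨V, hV, hx, inferInstance, Module.Flat.projective_of_finitePresentation⟩

end Groth.Agent.Lib.Pinch
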