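import Groth.Agent.Lib.Pinch.RingedPushout
import Groth.Agent.Lib.Pinch.StalkFrame
import Groth.Agent.Lib.DescAlg.PbSecHom

/-!
# Sections of finite locally free modules on a pushout of ringed spaces

Sections of a finite locally free module over an open of a ringed-space pushout are the compatible
pairs of sections of its two inverse images.
-/

set_option autoImplicit false
universe u

open CategoryTheory CategoryTheory.Limits AlgebraicGeometry Opposite TopologicalSpace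
open ZarCoh.FlatBC.PullbackSections

namespace Groth.Agent.Lib.Pinch.PairSections

open Groth.Agent.Lib.DescAlg.PbSec Groth.Agent.Lib.TensorMod.Dual StalkFrame

variable {X Y Z T : Scheme.{u}} {fX : Z ⟶ X} {fY : Z ⟶ Y} {gX : X ⟶ T} {gY : Y ⟶ T}

theorem pbRes_map {X Y : Scheme.{u}} (u : Y ⟶ X) (M : X.Modules) {U U' : X.Opens} {W : Y.Opens}
    (h : U' ≤ U) (e : W ≤ u ⁻¹ᵁ U') (m : Γ(M, U)) :
    pbRes u M e (M.presheaf.map (homOfLE h).op m) = pbRes u M (e.trans (u.preimage_mono h)) m := by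
  let P := ((Scheme.Modules.pullback u).obj M).presheaf
  have h1 := ConcreteCategory.congr_hom
    (((Scheme.Modules.pullbackPushforwardAdjunction u).unit.app M).mapPresheaf.naturality (homOfLE h).op) m
  show P.map (homOfLE e).op _ = P.map (homOfLE (e.trans (u.preimage_mono h))).op _
  refine (congrArg (P.map (homOfLE e).op) h1).trans ?_
  show P.map _ (P.map _ _) = _
  rw [← ConcreteCategory.comp_apply, ← P.map_comp]
  rfl

/-- Restriction commutes with pulling back sections. -/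
theorem pb_rs (g : X ⟶ T) (N : T.Modules) {O O' : T.Opens} (h : O' ≤ O) (s : Γ(N, O)) :
    pbRes g N (le_refl (g ⁻¹ᵁ O')) (rs N h s) =
      rs ((Scheme.Modules.pullback g).obj N) (g.preimage_mono h) (pbRes g N (le_refl (g ⁻¹ᵁ O)) s) :=
  (pbRes_map g N h _ s).trans (map_pbRes g N (le_refl (g ⁻¹ᵁ O)) (g.preimage_mono h) s).symm

theorem pb_comb (g : X ⟶ T) (N : T.Modules) {n : ℕ} {U O : T.Opens} (e : Fin n → Γ(N, U)) (h : O ≤ U)
    (c : Fin n → Γ(T, O)) :
    pbRes g N (le_refl (g ⁻¹ᵁ O)) (comb e h c) =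
      comb (fun i => pbRes g N (le_refl (g ⁻¹ᵁ U)) (e i)) (g.preimage_mono h)
        fun i => g.app O (c i) := by
  simp only [comb, map_sum, pbRes_smul, pb_rs, Scheme.Hom.app_eq_appLE]

theorem R_comb {Z X T : Scheme.{u}} (f : Z ⟶ X) {g : X ⟶ T} {v : Z ⟶ T} (hv : f ≫ g = v)
    (N : T.Modules) {n : ℕ} {U : T.Opens} (e : Fin n → Γ(N, U)) {O : X.Opens} (h : O ≤ g ⁻¹ᵁ U)
    {W : Z.Opens} (hW : W ≤ f ⁻¹ᵁ O) (hWv : W ≤ v ⁻¹ᵁ U) (c : Fin n → Γ(X, O)) :
    R f hv N hW (comb (fun i => pbRes g N (le_refl (g ⁻¹ᵁ U)) (e i)) h c) =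
      comb (fun i => pbRes v N (le_refl (v ⁻¹ᵁ U)) (e i)) hWv fun i => f.appLE O W hW (c i) := by
  simp only [comb, map_sum, R_smul]
  refine Finset.sum_congr rfl fun i _ => congrArg _ ?_
  rw [rs, R_map, R_pbRes]
  exact (map_pbRes v N (le_refl (v ⁻¹ᵁ U)) hWv (e i)).symm

variable (hw : fX ≫ gX = fY ≫ gY)
  (hpo : IsPushout (RingedPushout.toSS.map fX) (RingedPushout.toSS.map fY)
    (RingedPushout.toSS.map gX) (RingedPushout.toSS.map gY))
  (N : T.Modules)

/-- A pair of sections of the two inverse images agreeing on `Z`. -/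
def Compat (O : T.Opens) (x : Γ((Scheme.Modules.pullback gX).obj N, gX ⁻¹ᵁ O))
    (y : Γ((Scheme.Modules.pullback gY).obj N, gY ⁻¹ᵁ O)) : Prop :=
  ∀ (W : Z.Opens) (h₁ : W ≤ fX ⁻¹ᵁ (gX ⁻¹ᵁ O)) (h₂ : W ≤ fY ⁻¹ᵁ (gY ⁻¹ᵁ O)),
    R fX hw N h₁ x = R fY rfl N h₂ y

variable {N}

theorem Compat.rs {O O' : T.Opens} {x : Γ((Scheme.Modules.pullback gX).obj N, gX ⁻¹ᵁ O)}
    {y : Γ((Scheme.Modules.pullback gY).obj N, gY ⁻¹ᵁ O)} (h : Compat hw N O x y) (hO : O' ≤ O) :
    Compat hw N O' (Groth.Agent.Lib.TensorMod.Dual.rs _ (gX.preimage_mono hO) x)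
      (Groth.Agent.Lib.TensorMod.Dual.rs _ (gY.preimage_mono hO) y) := fun W h₁ h₂ =>
  (R_map fX hw N (gX.preimage_mono hO) h₁ x).trans
    ((h W _ _).trans (R_map fY rfl N (gY.preimage_mono hO) h₂ y).symm)

include hw hpo

section Frame

variable {n : ℕ} {U : T.Opens} {e : Fin n → Γ(N, U)} (he : IsFrame N U e) {O : T.Opens} (hO : O ≤ U)

include he hO

theorem ext_of_frame {s s' : Γ(N, O)}
    (hx : pbRes gX N (le_refl (gX ⁻¹ᵁ O)) s = pbRes gX N (le_refl (gX ⁻¹ᵁ O)) s')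
    (hy : pbRes gY N (le_refl (gY ⁻¹ᵁ O)) s = pbRes gY N (le_refl (gY ⁻¹ᵁ O)) s') : s = s' := by
  obtain ⟨p, rfl⟩ := comb_surjective he hO s
  obtain ⟨q, rfl⟩ := comb_surjective he hO s'
  rw [pb_comb, pb_comb] at hx hy
  have hx' := comb_injective (he.pbRes gX le_rfl) _ hx
  have hy' := comb_injective (he.pbRes gY le_rfl) _ hy
  refine congrArg _ (funext fun i => ?_)
  obtain ⟨t, -, ht⟩ := RingedPushout.existsUnique_section hw hpo O (gX.app O (p i)) (gY.app O (p i))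
    fun W h₁ h₂ => by
      rw [Scheme.Hom.app_eq_appLE, Scheme.Hom.app_eq_appLE, ← CommRingCat.comp_apply,
        ← CommRingCat.comp_apply, Scheme.Hom.appLE_comp_appLE, Scheme.Hom.appLE_comp_appLE]
      simp only [hw]
  exact (ht (p i) ⟨rfl, rfl⟩).trans (ht (q i) ⟨(congrFun hx' i).symm, (congrFun hy' i).symm⟩).symm

theorem exists_of_frame {x : Γ((Scheme.Modules.pullback gX).obj N, gX ⁻¹ᵁ O)}
    {y : Γ((Scheme.Modules.pullback gY).obj N, gY ⁻¹ᵁ O)} (hc : Compat hw N O x y) :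
    ∃ s : Γ(N, O), pbRes gX N (le_refl (gX ⁻¹ᵁ O)) s = x ∧ pbRes gY N (le_refl (gY ⁻¹ᵁ O)) s = y := by
  obtain ⟨p, rfl⟩ := comb_surjective (he.pbRes gX le_rfl) (gX.preimage_mono hO) x
  obtain ⟨q, rfl⟩ := comb_surjective (he.pbRes gY le_rfl) (gY.preimage_mono hO) y
  have hex : ∀ i, ∃ t : Γ(T, O), gX.app O t = p i ∧ gY.app O t = q i := fun i =>
    (RingedPushout.existsUnique_section hw hpo O (p i) (q i) fun W h₁ h₂ => by
      have hWv : W ≤ (fY ≫ gY) ⁻¹ᵁ U := h₂.trans (fY.preimage_mono (gY.preimage_mono hO))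
      have := hc W h₁ h₂
      rw [R_comb fX hw N e _ h₁ hWv, R_comb fY rfl N e _ h₂ hWv] at this
      exact congrFun (comb_injective (he.pbRes (fY ≫ gY) le_rfl) _ this) i).exists
  choose t ht₁ ht₂ using hex
  refine ⟨comb e hO t, ?_, ?_⟩ <;> rw [pb_comb]
  · exact congrArg (comb _ _) (funext ht₁)
  · exact congrArg (comb _ _) (funext ht₂)

end Frame

variable (hN : FlatMod.IsFinLocFree N)

include hN

/-- Sections are determined by their two inverse images. -/
theorem ext {O : T.Opens} {s s' : Γ(N, O)}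
    (hx : pbRes gX N (le_refl (gX ⁻¹ᵁ O)) s = pbRes gX N (le_refl (gX ⁻¹ᵁ O)) s')
    (hy : pbRes gY N (le_refl (gY ⁻¹ᵁ O)) s = pbRes gY N (le_refl (gY ⁻¹ᵁ O)) s') : s = s' := by
  refine Modules.TensorSec.section_ext N _ _ fun p hp => ?_
  obtain ⟨U, n, e, hpU, he⟩ := exists_isFrame hN p
  refine ⟨O ⊓ U, inf_le_left, ⟨hp, hpU⟩, ext_of_frame hw hpo he inf_le_right ?_ ?_⟩
  · rw [pb_rs, pb_rs, hx]
  · rw [pb_rs, pb_rs, hy]

/-- Compatible pairs are sections. -/
theorem existsUnique {O : T.Opens} {x : Γ((Scheme.Modules.pullback gX).obj N, gX ⁻¹ᵁ O)}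
    {y : Γ((Scheme.Modules.pullback gY).obj N, gY ⁻¹ᵁ O)} (hc : Compat hw N O x y) :
    ∃! s : Γ(N, O), pbRes gX N (le_refl (gX ⁻¹ᵁ O)) s = x ∧ pbRes gY N (le_refl (gY ⁻¹ᵁ O)) s = y := by
  refine existsUnique_of_exists_of_unique ?_ fun s s' hs hs' =>
    ext hw hpo hN (hs.1.trans hs'.1.symm) (hs.2.trans hs'.2.symm)
  choose U n e hpU he using fun p : O => exists_isFrame hN p.1
  let O' : O → T.Opens := fun p => O ⊓ U p
  have hle : ∀ p, O' p ≤ O := fun p => inf_le_left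
  choose s hsx hsy using fun p => exists_of_frame hw hpo (he p) inf_le_right (hc.rs hw (hle p))
  have hcov : O ≤ iSup O' := fun p hp => Opens.mem_iSup.2 ⟨⟨p, hp⟩, hp, hpU _⟩
  have hag : ∀ p q, rs N (inf_le_left : O' p ⊓ O' q ≤ O' p) (s p) =
      rs N (inf_le_right : O' p ⊓ O' q ≤ O' q) (s q) := fun p q => by
    refine ext hw hpo hN ?_ ?_
    · rw [pb_rs, pb_rs, hsx, hsx, rs_rs, rs_rs]
    · rw [pb_rs, pb_rs, hsy, hsy, rs_rs, rs_rs]
  obtain ⟨t, ht, -⟩ := TopCat.Sheaf.existsUnique_gluing'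
    (⟨N.presheaf, N.isSheaf⟩ : TopCat.Sheaf AddCommGrpCat.{u} T) O' O (fun p => homOfLE (hle p)) hcov
    s hag
  refine ⟨t, ?_, ?_⟩
  · refine Modules.TensorSec.section_ext _ _ _ fun z hz => ?_
    refine ⟨gX ⁻¹ᵁ O' ⟨gX z, hz⟩, gX.preimage_mono (hle _), ⟨hz, hpU ⟨gX z, hz⟩⟩, ?_⟩
    rw [← pb_rs gX N (hle ⟨gX z, hz⟩) t, show rs N (hle ⟨gX z, hz⟩) t = s ⟨gX z, hz⟩ from ht _, hsx]
  · refine Modules.TensorSec.section_ext _ _ _ fun z hz => ?_
    refine ⟨gY ⁻¹ᵁ O' ⟨gY z, hz⟩, gY.preimage_mono (hle _), ⟨hz, hpU ⟨gY z, hz⟩⟩, ?_⟩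
    rw [← pb_rs gY N (hle ⟨gY z, hz⟩) t, show rs N (hle ⟨gY z, hz⟩) t = s ⟨gY z, hz⟩ from ht _, hsy]

omit hN

variable {M : T.Modules}

omit hpo in
/-- The hypothesis on a pair of morphisms, on `Z`. -/
theorem conj_eq {a : (Scheme.Modules.pullback gX).obj M ⟶ (Scheme.Modules.pullback gX).obj N}
    {b : (Scheme.Modules.pullback gY).obj M ⟶ (Scheme.Modules.pullback gY).obj N}
    (h : (Scheme.Modules.pullback fX).map a ≫
        ((Scheme.Modules.pullbackComp fX gX).app N ≪≫ (Scheme.Modules.pullbackCongr hw).app N ≪≫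
          ((Scheme.Modules.pullbackComp fY gY).app N).symm).hom =
      ((Scheme.Modules.pullbackComp fX gX).app M ≪≫ (Scheme.Modules.pullbackCongr hw).app M ≪≫
          ((Scheme.Modules.pullbackComp fY gY).app M).symm).hom ≫
        (Scheme.Modules.pullback fY).map b) :
    conj M N fX hw a = conj M N fY rfl b := by
  have e : ∀ P : T.Modules, (tr fY (rfl : fY ≫ gY = fY ≫ gY) P) = (Scheme.Modules.pullbackComp fY gY).app P :=
    fun P => by ext1; simp [tr, Scheme.Modules.pullbackCongr]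
  have h' := congrArg (fun k => (tr fX hw M).inv ≫ k ≫ ((Scheme.Modules.pullbackComp fY gY).app N).hom) h
  rw [conj, conj, e, e]
  simpa [tr] using h'

include hN in
/-- A compatible pair of morphisms into a finite locally free module descends. -/
theorem exists_hom {a : (Scheme.Modules.pullback gX).obj M ⟶ (Scheme.Modules.pullback gX).obj N}
    {b : (Scheme.Modules.pullback gY).obj M ⟶ (Scheme.Modules.pullback gY).obj N}
    (h : conj M N fX hw a = conj M N fY rfl b) :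
    ∃ φ : M ⟶ N, (Scheme.Modules.pullback gX).map φ = a ∧ (Scheme.Modules.pullback gY).map φ = b := by
  have hc : ∀ (O : T.Opens) (m : Γ(M, O)), Compat hw N O
      (a.app (gX ⁻¹ᵁ O) (pbRes gX M le_rfl m)) (b.app (gY ⁻¹ᵁ O) (pbRes gY M le_rfl m)) := by
    intro O m W h₁ h₂
    rw [R_app, R_app, R_pbRes, R_pbRes, h]
  choose φ hφ huniq using fun O m => existsUnique hw hpo hN (hc O m)
  have hadd : ∀ O m m', φ O (m + m') = φ O m + φ O m' := fun O m m' =>
    (huniq O (m + m') _ ⟨by simp only [map_add, (hφ O m).1, (hφ O m').1],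
      by simp only [map_add, (hφ O m).2, (hφ O m').2]⟩).symm
  have hzero : ∀ O, φ O 0 = 0 := fun O => (huniq O 0 _ ⟨by simp, by simp⟩).symm
  let φp : M.presheaf ⟶ N.presheaf :=
    { app := fun O => AddCommGrpCat.ofHom { toFun := φ O.unop, map_zero' := hzero _, map_add' := hadd _ }
      naturality := fun O O' k => by
        ext m
        show φ O'.unop (rs M k.unop.le m) = rs N k.unop.le (φ O.unop m)
        refine (huniq O'.unop _ _ ⟨?_, ?_⟩).symm
        · rw [pb_rs, pb_rs, (hφ O.unop m).1]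
          exact (ConcreteCategory.congr_hom (a.mapPresheaf.naturality
            (homOfLE (gX.preimage_mono k.unop.le)).op) _).symm
        · rw [pb_rs, pb_rs, (hφ O.unop m).2]
          exact (ConcreteCategory.congr_hom (b.mapPresheaf.naturality
            (homOfLE (gY.preimage_mono k.unop.le)).op) _).symm }
  refine ⟨⟨PresheafOfModules.homMk φp fun O r m => ?_⟩,
    hom_ext gX fun O m => ?_, hom_ext gY fun O m => ?_⟩
  · show φ O.unop ((show Γ(T, O.unop) from r) • (show Γ(M, O.unop) from m)) =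
      (show Γ(T, O.unop) from r) • φ O.unop m
    exact (huniq O.unop _ _ ⟨by rw [pbRes_smul, pbRes_smul, Scheme.Modules.Hom.app_smul, (hφ O.unop m).1],
      by rw [pbRes_smul, pbRes_smul, Scheme.Modules.Hom.app_smul, (hφ O.unop m).2]⟩).symm
  · rw [pbRes_natural]
    exact (hφ O m).1
  · rw [pbRes_natural]
    exact (hφ O m).2

include hN in
/-- Morphisms into a finite locally free module are determined by their inverse images. -/
theorem hom_eq {φ ψ : M ⟶ N}
    (hX : (Scheme.Modules.pullback gX).map φ = (Scheme.Modules.pullback gX).map ψ)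
    (hY : (Scheme.Modules.pullback gY).map φ = (Scheme.Modules.pullback gY).map ψ) : φ = ψ := by
  refine Scheme.Modules.hom_ext _ _ fun O => ?_
  ext m
  refine ext hw hpo hN ?_ ?_
  · rw [← pbRes_natural, ← pbRes_natural, hX]
  · rw [← pbRes_natural, ← pbRes_natural, hY]

end Groth.Agent.Lib.Pinch.PairSections
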