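import Groth.Agent.Lib.Pinch.RingedPushout
import Groth.Agent.Lib.Pinch.FrameSpread
import Groth.Agent.Lib.Pinch.PairSections
import Mathlib.CategoryTheory.Limits.Types.Pullbacks

/-!
# Glueing finite locally free modules over a pushout of ringed spaces

A pair of modules with an identification on `Z` which has compatible frames near every point of the
pushout comes from a finite locally free module.
-/

set_option autoImplicit false
set_option linter.style.haveILetI false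
universe u

open CategoryTheory CategoryTheory.Limits AlgebraicGeometry Opposite TopologicalSpace
open ZarCoh.FlatBC.PullbackSections

namespace Groth.Agent.Lib.Pinch.PairGlue

open Groth.Agent.Lib.DescAlg.PbSec Groth.Agent.Lib.TensorMod.Dual StalkFrame

variable {X Y Z T : Scheme.{u}}

/-- Pull a section back and map it, as a morphism of direct images. -/
noncomputable def pullTo (f : Z ⟶ X) (g : X ⟶ T) (v : Z ⟶ T) (hv : f ≫ g = v) {L : X.Modules}
    {Q : Z.Modules} (τ : (Scheme.Modules.pullback f).obj L ⟶ Q) :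
    (Scheme.Modules.pushforward g).obj L ⟶ (Scheme.Modules.pushforward v).obj Q :=
  ⟨PresheafOfModules.homMk
    { app := fun O => AddCommGrpCat.ofHom ((τ.app (v ⁻¹ᵁ O.unop)).hom.comp
        (pbRes f L (show v ⁻¹ᵁ O.unop ≤ f ⁻¹ᵁ (g ⁻¹ᵁ O.unop) by rw [← hv]; rfl)))
      naturality := fun O O' k => by
        ext m
        show τ.app (v ⁻¹ᵁ O'.unop) (pbRes f L _ (rs L (g.preimage_mono k.unop.le) m)) =
          rs Q (v.preimage_mono k.unop.le) (τ.app (v ⁻¹ᵁ O.unop) (pbRes f L _ m))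
        rw [StalkFrame.pbRes_rs]
        refine Eq.trans ?_ (ConcreteCategory.congr_hom
          (τ.mapPresheaf.naturality (homOfLE (v.preimage_mono k.unop.le)).op) _)
        exact congrArg (τ.app _) (rs_pbRes f L _ _ m).symm }
    fun O r m => by
      show τ.app (v ⁻¹ᵁ O.unop) (pbRes f L _ (g.app O.unop r • (show Γ(L, g ⁻¹ᵁ O.unop) from m))) =
        v.app O.unop r • τ.app (v ⁻¹ᵁ O.unop) (pbRes f L _ m)
      rw [pbRes_smul, Scheme.Modules.Hom.app_smul]
      congr 1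
      subst hv
      rw [← CommRingCat.comp_apply, Scheme.Hom.app_eq_appLE, Scheme.Hom.appLE_comp_appLE,
        Scheme.Hom.app_eq_appLE]⟩

theorem pullTo_app (f : Z ⟶ X) (g : X ⟶ T) (v : Z ⟶ T) (hv : f ≫ g = v) {L : X.Modules}
    {Q : Z.Modules} (τ : (Scheme.Modules.pullback f).obj L ⟶ Q) (O : T.Opens)
    (e : v ⁻¹ᵁ O ≤ f ⁻¹ᵁ (g ⁻¹ᵁ O)) (m : Γ(L, g ⁻¹ᵁ O)) :
    (pullTo f g v hv τ).app O m = τ.app (v ⁻¹ᵁ O) (pbRes f L e m) := rfl

variable {fX : Z ⟶ X} {fY : Z ⟶ Y} {gX : X ⟶ T} {gY : Y ⟶ T} (hw : fX ≫ gX = fY ≫ gY)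
  {LX : X.Modules} {LY : Y.Modules}
  (σ : (Scheme.Modules.pullback fX).obj LX ≅ (Scheme.Modules.pullback fY).obj LY)

/-- Frames of the two modules on the preimages of `O` matching on `Z`. -/
def HasFrames (n : ℕ) (O : T.Opens) : Prop :=
  ∃ (ex : Fin n → Γ(LX, gX ⁻¹ᵁ O)) (ey : Fin n → Γ(LY, gY ⁻¹ᵁ O)),
    IsFrame LX (gX ⁻¹ᵁ O) ex ∧ IsFrame LY (gY ⁻¹ᵁ O) ey ∧
      ∀ i, (pullTo fX gX (fY ≫ gY) hw σ.hom).app O (ex i) =
        (pullTo fY gY (fY ≫ gY) rfl (𝟙 _)).app O (ey i)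

/-- The glued module. -/
noncomputable def glue : T.Modules :=
  Limits.pullback (pullTo fX gX (fY ≫ gY) hw σ.hom) (pullTo fY gY (fY ≫ gY) rfl (𝟙 _))

/-- First component. -/
noncomputable def fstS (O : T.Opens) : Γ(glue hw σ, O) →+ Γ(LX, gX ⁻¹ᵁ O) :=
  ((Limits.pullback.fst _ _ : glue hw σ ⟶ _).app O).hom

/-- Second component. -/
noncomputable def sndS (O : T.Opens) : Γ(glue hw σ, O) →+ Γ(LY, gY ⁻¹ᵁ O) :=
  ((Limits.pullback.snd _ _ : glue hw σ ⟶ _).app O).hom

/-- Sections over an open as a functor to types. -/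
noncomputable abbrev secT (O : T.Opens) : T.Modules ⥤ Type u :=
  Scheme.Modules.toPresheaf T ⋙ (evaluation _ _).obj (op O) ⋙ forget AddCommGrpCat.{u}

theorem isPullback_sec (O : T.Opens) :
    IsPullback ((secT O).map (Limits.pullback.fst (pullTo fX gX (fY ≫ gY) hw σ.hom)
        (pullTo fY gY (fY ≫ gY) rfl (𝟙 ((Scheme.Modules.pullback fY).obj LY)))))
      ((secT O).map (Limits.pullback.snd (pullTo fX gX (fY ≫ gY) hw σ.hom) (pullTo fY gY (fY ≫ gY) rfl (𝟙 _))))
      ((secT O).map (pullTo fX gX (fY ≫ gY) hw σ.hom))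
      ((secT O).map (pullTo fY gY (fY ≫ gY) rfl (𝟙 _))) :=
  haveI : PreservesLimitsOfSize.{0, 0} (Scheme.Modules.toPresheaf T) := preservesLimitsOfSize_shrink _
  haveI : PreservesLimitsOfSize.{0, 0} (forget AddCommGrpCat.{u}) := preservesLimitsOfSize_shrink _
  haveI : PreservesLimitsOfSize.{0, 0} ((evaluation T.Opensᵒᵖ AddCommGrpCat.{u}).obj (op O)) :=
    preservesLimitsOfSize_shrink _
  haveI : PreservesLimitsOfSize.{0, 0}
      ((evaluation T.Opensᵒᵖ AddCommGrpCat.{u}).obj (op O) ⋙ forget AddCommGrpCat.{u}) := comp_preservesLimits _ _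
  haveI : PreservesLimitsOfSize.{0, 0} (secT O) := comp_preservesLimits _ _
  (IsPullback.of_hasPullback _ _).map (secT O)

theorem glue_ext {O : T.Opens} {s s' : Γ(glue hw σ, O)} (h₁ : fstS hw σ O s = fstS hw σ O s')
    (h₂ : sndS hw σ O s = sndS hw σ O s') : s = s' :=
  Types.ext_of_isPullback (isPullback_sec hw σ O) h₁ h₂

theorem glue_exists {O : T.Opens} (x : Γ(LX, gX ⁻¹ᵁ O)) (y : Γ(LY, gY ⁻¹ᵁ O))
    (h : (pullTo fX gX (fY ≫ gY) hw σ.hom).app O x = (pullTo fY gY (fY ≫ gY) rfl (𝟙 _)).app O y) :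
    ∃ s : Γ(glue hw σ, O), fstS hw σ O s = x ∧ sndS hw σ O s = y :=
  Types.exists_of_isPullback (isPullback_sec hw σ O) x y h

theorem glue_condition {O : T.Opens} (s : Γ(glue hw σ, O)) :
    (pullTo fX gX (fY ≫ gY) hw σ.hom).app O (fstS hw σ O s) =
      (pullTo fY gY (fY ≫ gY) rfl (𝟙 _)).app O (sndS hw σ O s) :=
  congr(($(pullback.condition (f := pullTo fX gX (fY ≫ gY) hw σ.hom)
    (g := pullTo fY gY (fY ≫ gY) rfl (𝟙 _)))).app O s)

theorem rs_pushforward (g : X ⟶ T) (L : X.Modules) {O O' : T.Opens} (h : O' ≤ O)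
    (m : Γ((Scheme.Modules.pushforward g).obj L, O)) :
    rs ((Scheme.Modules.pushforward g).obj L) h m = rs L (g.preimage_mono h) m := rfl

theorem fstS_comb {n : ℕ} {O W : T.Opens} (s : Fin n → Γ(glue hw σ, O)) (h : W ≤ O)
    (c : Fin n → Γ(T, W)) :
    fstS hw σ W (comb s h c) =
      comb (fun i => fstS hw σ O (s i)) (gX.preimage_mono h) fun i => gX.app W (c i) := by
  simp only [comb, map_sum]
  refine Finset.sum_congr rfl fun i _ => ?_
  refine (Scheme.Modules.Hom.app_smul (Limits.pullback.fst _ _ : glue hw σ ⟶ _) (c i) _).trans ?_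
  exact congrArg (fun z : Γ(LX, gX ⁻¹ᵁ W) => gX.app W (c i) • z) (ConcreteCategory.congr_hom
    ((Limits.pullback.fst _ _ : glue hw σ ⟶ _).mapPresheaf.naturality (homOfLE h).op) (s i))

theorem sndS_comb {n : ℕ} {O W : T.Opens} (s : Fin n → Γ(glue hw σ, O)) (h : W ≤ O)
    (c : Fin n → Γ(T, W)) :
    sndS hw σ W (comb s h c) =
      comb (fun i => sndS hw σ O (s i)) (gY.preimage_mono h) fun i => gY.app W (c i) := by
  simp only [comb, map_sum]
  refine Finset.sum_congr rfl fun i _ => ?_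
  refine (Scheme.Modules.Hom.app_smul (Limits.pullback.snd _ _ : glue hw σ ⟶ _) (c i) _).trans ?_
  exact congrArg (fun z : Γ(LY, gY ⁻¹ᵁ W) => gY.app W (c i) • z) (ConcreteCategory.congr_hom
    ((Limits.pullback.snd _ _ : glue hw σ ⟶ _).mapPresheaf.naturality (homOfLE h).op) (s i))

variable (hpo : IsPushout (RingedPushout.toSS.map fX) (RingedPushout.toSS.map fY)
    (RingedPushout.toSS.map gX) (RingedPushout.toSS.map gY))

theorem pullTo_comb (f : Z ⟶ X) (g : X ⟶ T) (v : Z ⟶ T) (hv : f ≫ g = v) {L : X.Modules}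
    {Q : Z.Modules} (τ : (Scheme.Modules.pullback f).obj L ⟶ Q) {n : ℕ} {O W : T.Opens} (h : W ≤ O)
    (ex : Fin n → Γ(L, g ⁻¹ᵁ O)) (p : Fin n → Γ(X, g ⁻¹ᵁ W))
    (e : v ⁻¹ᵁ W ≤ f ⁻¹ᵁ (g ⁻¹ᵁ W)) :
    (pullTo f g v hv τ).app W (comb (M := L) ex (g.preimage_mono h) p) =
      comb (M := Q) (fun i => (show Γ(Q, v ⁻¹ᵁ O) from (pullTo f g v hv τ).app O (ex i)))
        (v.preimage_mono h) fun i => f.appLE _ _ e (p i) := by
  rw [pullTo_app f g v hv τ W e]
  simp only [comb, map_sum, pbRes_smul, Scheme.Modules.Hom.app_smul]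
  refine Finset.sum_congr rfl fun i _ => congrArg _ ?_
  rw [StalkFrame.pbRes_rs, pullTo_app f g v hv τ O (hv ▸ le_rfl)]
  refine Eq.trans ?_ (ConcreteCategory.congr_hom
    (τ.mapPresheaf.naturality (homOfLE (v.preimage_mono h)).op) _)
  exact congrArg (τ.app _) (rs_pbRes f L _ _ (ex i)).symm

include hpo in
theorem isFrame_glue {n : ℕ} {O : T.Opens} (s : Fin n → Γ(glue hw σ, O))
    (hx : IsFrame LX (gX ⁻¹ᵁ O) fun i => fstS hw σ O (s i))
    (hy : IsFrame LY (gY ⁻¹ᵁ O) fun i => sndS hw σ O (s i)) : IsFrame (glue hw σ) O s := by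
  refine IsFrame.of_comb fun W h => ⟨fun c c' hc => ?_, fun t => ?_⟩
  · have h1 := congrArg (fstS hw σ W) hc
    have h2 := congrArg (sndS hw σ W) hc
    rw [fstS_comb, fstS_comb] at h1
    rw [sndS_comb, sndS_comb] at h2
    funext i
    obtain ⟨r, -, hr⟩ := RingedPushout.existsUnique_section hw hpo W (gX.app W (c i)) (gY.app W (c i))
      fun W' h₁ h₂ => by
        rw [Scheme.Hom.app_eq_appLE, Scheme.Hom.app_eq_appLE, ← CommRingCat.comp_apply,
          ← CommRingCat.comp_apply, Scheme.Hom.appLE_comp_appLE, Scheme.Hom.appLE_comp_appLE]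
        simp only [hw]
    exact (hr (c i) ⟨rfl, rfl⟩).trans (hr (c' i)
      ⟨(congrFun (comb_injective hx _ h1) i).symm, (congrFun (comb_injective hy _ h2) i).symm⟩).symm
  · obtain ⟨p, hp⟩ := comb_surjective hx (gX.preimage_mono h) (fstS hw σ W t)
    obtain ⟨q, hq⟩ := comb_surjective hy (gY.preimage_mono h) (sndS hw σ W t)
    have hex : ∀ i, ∃ r : Γ(T, W), gX.app W r = p i ∧ gY.app W r = q i := fun i =>
      (RingedPushout.existsUnique_section hw hpo W (p i) (q i) fun W' h₁ h₂ => by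
        have eX : (fY ≫ gY) ⁻¹ᵁ W ≤ fX ⁻¹ᵁ (gX ⁻¹ᵁ W) := by rw [← hw]; rfl
        have eY : (fY ≫ gY) ⁻¹ᵁ W ≤ fY ⁻¹ᵁ (gY ⁻¹ᵁ W) := le_rfl
        have hc := glue_condition hw σ t
        rw [← hp, ← hq, pullTo_comb fX gX _ hw σ.hom h _ p eX,
          pullTo_comb fY gY _ rfl (𝟙 _) h _ q eY] at hc
        have hfr : IsFrame ((Scheme.Modules.pullback fY).obj LY) ((fY ≫ gY) ⁻¹ᵁ O)
            fun i => pbRes fY LY (le_refl ((fY ≫ gY) ⁻¹ᵁ O)) (sndS hw σ O (s i)) := hy.pbRes fY _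
        have hkey := comb_injective hfr ((fY ≫ gY).preimage_mono h)
          (a₁ := fun i => fX.appLE _ _ eX (p i)) (a₂ := fun i => fY.appLE _ _ eY (q i)) (by
            refine Eq.trans ?_ hc
            congr 1
            funext i
            exact (glue_condition hw σ (s i)).symm)
        have := congrArg (Z.presheaf.map (homOfLE h₂).op) (congrFun hkey i)
        exact (congr($(fX.appLE_map eX (homOfLE h₂).op) (p i))).symm.trans
          (this.trans congr($(fY.appLE_map eY (homOfLE h₂).op) (q i)))).exists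
    choose r hr₁ hr₂ using hex
    refine ⟨r, glue_ext hw σ ?_ ?_⟩
    · rw [fstS_comb, ← hp]
      exact congrArg (comb _ _) (funext hr₁)
    · rw [sndS_comb, ← hq]
      exact congrArg (comb _ _) (funext hr₂)

/-- `gX^* M ⟶ LX`. -/
noncomputable def toX : (Scheme.Modules.pullback gX).obj (glue hw σ) ⟶ LX :=
  ((Scheme.Modules.pullbackPushforwardAdjunction gX).homEquiv _ _).symm (Limits.pullback.fst _ _)

/-- `gY^* M ⟶ LY`. -/
noncomputable def toY : (Scheme.Modules.pullback gY).obj (glue hw σ) ⟶ LY :=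
  ((Scheme.Modules.pullbackPushforwardAdjunction gY).homEquiv _ _).symm (Limits.pullback.snd _ _)

theorem homEquiv_symm_pbRes (g : X ⟶ T) {M : T.Modules} {L : X.Modules}
    (φ : M ⟶ (Scheme.Modules.pushforward g).obj L) {O : T.Opens} {W : X.Opens} (e : W ≤ g ⁻¹ᵁ O)
    (m : Γ(M, O)) :
    (((Scheme.Modules.pullbackPushforwardAdjunction g).homEquiv M L).symm φ).app W (pbRes g M e m) =
      rs L e (φ.app O m) := by
  obtain ⟨ψ, rfl⟩ := ((Scheme.Modules.pullbackPushforwardAdjunction g).homEquiv M L).surjective φ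
  rw [Equiv.symm_apply_apply, Adjunction.homEquiv_unit]
  exact ConcreteCategory.congr_hom (ψ.mapPresheaf.naturality (homOfLE e).op)
    (((Scheme.Modules.pullbackPushforwardAdjunction g).unit.app M).app O m)

theorem toX_pbRes {O : T.Opens} (m : Γ(glue hw σ, O)) :
    (toX hw σ).app (gX ⁻¹ᵁ O) (pbRes gX _ le_rfl m) = fstS hw σ O m :=
  (homEquiv_symm_pbRes gX _ le_rfl m).trans (rs_self LX _ _)

theorem toY_pbRes {O : T.Opens} (m : Γ(glue hw σ, O)) :
    (toY hw σ).app (gY ⁻¹ᵁ O) (pbRes gY _ le_rfl m) = sndS hw σ O m :=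
  (homEquiv_symm_pbRes gY _ le_rfl m).trans (rs_self LY _ _)

theorem tr_inv_pbRes {Z X : Scheme.{u}} (f : Z ⟶ X) {g : X ⟶ T} {v : Z ⟶ T} (hv : f ≫ g = v)
    (M : T.Modules) {O : T.Opens} (e : v ⁻¹ᵁ O ≤ f ⁻¹ᵁ (g ⁻¹ᵁ O)) (m : Γ(M, O)) :
    (tr f hv M).inv.app (v ⁻¹ᵁ O) (pbRes v M le_rfl m) =
      pbRes f ((Scheme.Modules.pullback g).obj M) e (pbRes g M le_rfl m) := by
  rw [show pbRes v M le_rfl m = R f hv M e (pbRes g M le_rfl m) from (R_pbRes f hv M _ e m).symm, R_eq]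
  exact congr(($((tr f hv M).hom_inv_id)).app (v ⁻¹ᵁ O) (pbRes f _ e (pbRes g M le_rfl m)))

include hpo in
/-- A pair with compatible frames near every point comes from a finite locally free module. -/
theorem exists_glue {n : ℕ} (hfr : ∀ p : T, ∃ O : T.Opens, p ∈ O ∧ HasFrames hw σ n O) :
    ∃ (M : T.Modules) (eX : (Scheme.Modules.pullback gX).obj M ≅ LX)
      (eY : (Scheme.Modules.pullback gY).obj M ≅ LY),
      FlatMod.IsFinLocFreeOfRank n M ∧
      (Scheme.Modules.pullbackComp fX gX).app M ≪≫ (Scheme.Modules.pullbackCongr hw).app M ≪≫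
          ((Scheme.Modules.pullbackComp fY gY).app M).symm ≪≫ (Scheme.Modules.pullback fY).mapIso eY =
        (Scheme.Modules.pullback fX).mapIso eX ≪≫ σ := by
  choose O hpO ex ey hex hey heq using hfr
  choose s hs₁ hs₂ using fun p i => glue_exists hw σ (ex p i) (ey p i) (heq p i)
  have hX : ∀ p, IsFrame LX (gX ⁻¹ᵁ O p) fun i => fstS hw σ (O p) (s p i) := fun p => by
    simpa only [hs₁] using hex p
  have hY : ∀ p, IsFrame LY (gY ⁻¹ᵁ O p) fun i => sndS hw σ (O p) (s p i) := fun p => by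
    simpa only [hs₂] using hey p
  have hM : ∀ p, IsFrame (glue hw σ) (O p) (s p) := fun p => isFrame_glue hw σ hpo (s p) (hX p) (hY p)
  have : IsIso (toX hw σ) := isIso_of_frames _ fun x =>
    ⟨gX ⁻¹ᵁ O (gX x), n, _, hpO (gX x), (hM _).pbRes gX le_rfl, by
      simpa only [toX_pbRes] using hX (gX x)⟩
  have : IsIso (toY hw σ) := isIso_of_frames _ fun y =>
    ⟨gY ⁻¹ᵁ O (gY y), n, _, hpO (gY y), (hM _).pbRes gY le_rfl, by
      simpa only [toY_pbRes] using hY (gY y)⟩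
  refine ⟨glue hw σ, asIso (toX hw σ), asIso (toY hw σ), fun p => ⟨O p, hpO p, (hM p).iso_free⟩, ?_⟩
  ext1
  rw [← cancel_epi (tr fX hw (glue hw σ)).inv]
  have e1 : (tr fX hw (glue hw σ)).inv ≫ ((Scheme.Modules.pullbackComp fX gX).app (glue hw σ) ≪≫
      (Scheme.Modules.pullbackCongr hw).app (glue hw σ) ≪≫
        ((Scheme.Modules.pullbackComp fY gY).app (glue hw σ)).symm ≪≫
          (Scheme.Modules.pullback fY).mapIso (asIso (toY hw σ))).hom =
      (tr fY (rfl : fY ≫ gY = fY ≫ gY) (glue hw σ)).inv ≫ (Scheme.Modules.pullback fY).map (toY hw σ) := by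
    simp [tr, Scheme.Modules.pullbackCongr]
  rw [e1]
  refine hom_ext (fY ≫ gY) fun U m => ?_
  have eX : (fY ≫ gY) ⁻¹ᵁ U ≤ fX ⁻¹ᵁ (gX ⁻¹ᵁ U) := by rw [← hw]; rfl
  have eY : (fY ≫ gY) ⁻¹ᵁ U ≤ fY ⁻¹ᵁ (gY ⁻¹ᵁ U) := le_rfl
  show ((Scheme.Modules.pullback fY).map (toY hw σ)).app _
      ((tr fY rfl (glue hw σ)).inv.app _ (pbRes (fY ≫ gY) _ le_rfl m)) =
    σ.hom.app _ (((Scheme.Modules.pullback fX).map (toX hw σ)).app _
      ((tr fX hw (glue hw σ)).inv.app _ (pbRes (fY ≫ gY) _ le_rfl m)))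
  rw [tr_inv_pbRes fY rfl _ eY m, tr_inv_pbRes fX hw _ eX m, pbRes_natural, pbRes_natural, toX_pbRes,
    toY_pbRes]
  exact (glue_condition hw σ m).symm

end Groth.Agent.Lib.Pinch.PairGlue
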