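import Groth.Agent.Lib.Ferrand.BaseChange
import Groth.Agent.Lib.Ferrand.Flatness
import Mathlib.Geometry.RingedSpace.LocallyRingedSpace
import Mathlib.Algebra.Category.Ring.Adjunctions

/-!
# Pushout squares of ringed spaces formed by schemes

Sections over every open of such a pushout are pairs of compatible sections; with a closed immersion
`i` and affine `a`, closed immersion `b`, the square is a glued Ferrand square.
-/

universe u

open CategoryTheory Limits AlgebraicGeometry TopologicalSpace Opposite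

namespace Groth.Agent.Lib.Pinch.RingedPushout

noncomputable section

/-- Schemes as ringed spaces. -/
abbrev toSS : Scheme.{u} ⥤ SheafedSpace.{_, _, u} CommRingCat.{u} :=
  Scheme.forgetToLocallyRingedSpace ⋙ LocallyRingedSpace.forgetToSheafedSpace

variable {P W W' : Scheme.{u}}

/-- The presheafed space classifying sections over `O`. -/
def test (O : P.Opens) : PresheafedSpace.{_, _, u} CommRingCat.{u} where
  carrier := P.toPresheafedSpace.carrier
  presheaf := (yoneda.obj O : P.Opensᵒᵖ ⥤ Type u) ⋙ CommRingCat.free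

/-- The generator on `O`. -/
def gen (O : P.Opens) : (test O).presheaf.obj (op O) := MvPolynomial.X (𝟙 O)

lemma map_endo {U : W.Opens} (g : op U ⟶ op U) (x : Γ(W, U)) : W.presheaf.map g x = x :=
  (congrArg (fun e => W.presheaf.map e x) (Subsingleton.elim g (𝟙 _))).trans
    (congr($(W.presheaf.map_id _) x))

lemma map_map_endo {U V : W.Opens} (g : op U ⟶ op V) (g' : op V ⟶ op U) (x : Γ(W, U)) :
    W.presheaf.map g' (W.presheaf.map g x) = x :=
  (congr($(W.presheaf.map_comp g g') x)).symm.trans (map_endo _ _)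

/-- The map to `test O` given by a section. -/
def testHom {O : P.Opens} (f : W ⟶ P) (w : Γ(W, f ⁻¹ᵁ O)) : W.toPresheafedSpace ⟶ test O where
  base := f.base
  c :=
    { app := fun U => CommRingCat.ofHom
        (MvPolynomial.eval₂Hom (Int.castRingHom _)
          fun h => W.presheaf.map ((Opens.map f.base).map h).op w)
      naturality := fun {U V} r => by
        refine CommRingCat.hom_ext (MvPolynomial.ringHom_ext (fun n => ?_) fun h => ?_)
        · simp
        · show MvPolynomial.eval₂Hom _ _ (MvPolynomial.rename _ (MvPolynomial.X h)) =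
            W.presheaf.map ((Opens.map f.base).map r.unop).op (MvPolynomial.eval₂Hom _ _ (MvPolynomial.X h))
          rw [MvPolynomial.rename_X, MvPolynomial.eval₂Hom_X', MvPolynomial.eval₂Hom_X',
            ← CommRingCat.comp_apply, ← W.presheaf.map_comp]
          rfl }

lemma testHom_app_gen {O : P.Opens} (f : W ⟶ P) (w : Γ(W, f ⁻¹ᵁ O)) :
    (testHom f w).c.app (op O) (gen O) = w := by
  show MvPolynomial.eval₂Hom (Int.castRingHom Γ(W, f ⁻¹ᵁ O)) _ (MvPolynomial.X (𝟙 O)) = w
  rw [MvPolynomial.eval₂Hom_X']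
  exact (congrArg (fun e => W.presheaf.map e w) (Subsingleton.elim _ (𝟙 _))).trans
    (congr($(W.presheaf.map_id _) w))

lemma testHom_congr {O : P.Opens} {f g : W ⟶ P} (hfg : f = g) {x : Γ(W, f ⁻¹ᵁ O)}
    {y : Γ(W, g ⁻¹ᵁ O)} (hxy : W.presheaf.map (homOfLE (hfg ▸ le_rfl : g ⁻¹ᵁ O ≤ f ⁻¹ᵁ O)).op x = y) :
    testHom f x = testHom g y := by
  subst hfg
  rw [← hxy]
  congr 1
  exact (congr($(W.presheaf.map_id _) x)).symm

lemma comp_testHom {O : P.Opens} (h : W' ⟶ W) (f : W ⟶ P) (w : Γ(W, f ⁻¹ᵁ O)) :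
    h.toPshHom ≫ testHom f w = testHom (h ≫ f) (h.app (f ⁻¹ᵁ O) w) := by
  refine PresheafedSpace.ext _ _ rfl (NatTrans.ext (funext fun U => ?_))
  refine CommRingCat.hom_ext (MvPolynomial.ringHom_ext (fun n => ?_) fun k => ?_)
  · simp
  · show W'.presheaf.map (𝟙 (op ((Opens.map (h ≫ f).base).obj U.unop)))
        (h.app ((Opens.map f.base).obj U.unop)
          (MvPolynomial.eval₂Hom (Int.castRingHom _) _ (MvPolynomial.X k))) =
      MvPolynomial.eval₂Hom (Int.castRingHom _) _ (MvPolynomial.X k)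
    rw [MvPolynomial.eval₂Hom_X', MvPolynomial.eval₂Hom_X']
    refine (map_endo _ _).trans ?_
    exact (congr($(h.naturality ((Opens.map f.base).map k).op) w))

lemma resLE_appTop_topIso {X Y : Scheme.{u}} (f : X ⟶ Y) (U : Y.Opens) (V : X.Opens) (e : V ≤ f ⁻¹ᵁ U)
    (t : Γ(Y, U)) : (f.resLE U V e).appTop.hom (U.topIso.inv.hom t) = V.topIso.inv.hom (f.appLE U V e t) := by
  show ((f.resLE U V e).app ⊤).hom _ = _
  rw [Scheme.Hom.resLE_app_top, ← CommRingCat.comp_apply]
  exact congr($(Iso.inv_hom_id_assoc U.topIso (f.appLE U V e ≫ V.topIso.inv)) t)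

section Pushout

variable {X Y Z : Scheme.{u}} {i : Z ⟶ X} {j : Z ⟶ Y} {a : X ⟶ P} {b : Y ⟶ P}
  (hw : i ≫ a = j ≫ b) (hpo : IsPushout (toSS.map i) (toSS.map j) (toSS.map a) (toSS.map b))

include hpo

lemma isPushout_presheafedSpace :
    IsPushout i.toPshHom j.toPshHom a.toPshHom b.toPshHom :=
  hpo.map SheafedSpace.forgetToPresheafedSpace

theorem jointly_surjective (p : P) : (∃ x, a x = p) ∨ ∃ y, b y = p := by
  classical
  have h : IsPushout i.base j.base a.base b.base := hpo.map (SheafedSpace.forget _)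
  by_contra hp
  push Not at hp
  let T : TopCat.{u} := @TopCat.of (ULift.{u} Bool) ⊤
  let f₁ : P.toPresheafedSpace.carrier ⟶ T :=
    @TopCat.ofHom _ _ _ ⊤ (@ContinuousMap.mk _ _ _ ⊤ (fun _ => ULift.up true) continuous_top)
  let f₂ : P.toPresheafedSpace.carrier ⟶ T :=
    @TopCat.ofHom _ _ _ ⊤ (@ContinuousMap.mk _ _ _ ⊤ (fun q => ULift.up (decide (q ≠ p))) continuous_top)
  have e : f₁ = f₂ := by
    refine h.hom_ext ?_ ?_ <;> refine TopCat.ext fun x => ?_
    · show ULift.up true = ULift.up (decide (a x ≠ p))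
      simp [hp.1 x]
    · show ULift.up true = ULift.up (decide (b x ≠ p))
      simp [hp.2 x]
  have : ULift.up true = (ULift.up (decide (p ≠ p)) : ULift.{u} Bool) := congr($e p)
  simp at this

include hw in
/-- Sections on a ringed-space pushout are compatible pairs of sections. -/
theorem existsUnique_section (O : P.Opens) (x : Γ(X, a ⁻¹ᵁ O)) (y : Γ(Y, b ⁻¹ᵁ O))
    (hxy : ∀ (W : Z.Opens) (h₁ : W ≤ i ⁻¹ᵁ (a ⁻¹ᵁ O)) (h₂ : W ≤ j ⁻¹ᵁ (b ⁻¹ᵁ O)),
      i.appLE _ W h₁ x = j.appLE _ W h₂ y) :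
    ∃! s : Γ(P, O), a.app O s = x ∧ b.app O s = y := by
  have h := isPushout_presheafedSpace hpo
  refine existsUnique_of_exists_of_unique ?_ fun s s' hs hs' => ?_
  · have hc : i.toPshHom ≫ testHom a x = j.toPshHom ≫ testHom b y := by
      rw [comp_testHom, comp_testHom]
      refine testHom_congr hw ?_
      have h' := hxy ((j ≫ b) ⁻¹ᵁ O) (hw ▸ le_rfl) le_rfl
      rw [Scheme.Hom.appLE, Scheme.Hom.appLE, CommRingCat.comp_apply, CommRingCat.comp_apply] at h'
      exact h'.trans (congr($(Z.presheaf.map_id _) (j.app (b ⁻¹ᵁ O) y)))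
    let m := h.desc (testHom a x) (testHom b y) hc
    have hma : a.toPshHom ≫ m = testHom a x := h.inl_desc _ _ _
    have hmb : b.toPshHom ≫ m = testHom b y := h.inr_desc _ _ _
    let O' : P.Opens := (Opens.map m.base).obj O
    have hO : O' = O := by
      ext p
      rcases jointly_surjective hpo p with ⟨z, rfl⟩ | ⟨z, rfl⟩
      · exact iff_of_eq (congrArg (· ∈ O) (congr(($hma).base z)))
      · exact iff_of_eq (congrArg (· ∈ O) (congr(($hmb).base z)))
    let s₀ : Γ(P, O') := m.c.app (op O) (gen O)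
    refine ⟨P.presheaf.map (eqToHom hO.symm).op s₀, ?_, ?_⟩
    · have e := congr($(PresheafedSpace.congr_app hma (op O)) (gen O))
      simp only [CommRingCat.comp_apply, PresheafedSpace.comp_c_app] at e
      rw [testHom_app_gen] at e
      rw [← CommRingCat.comp_apply, a.naturality, CommRingCat.comp_apply]
      erw [e]
      exact map_map_endo _ _ _
    · have e := congr($(PresheafedSpace.congr_app hmb (op O)) (gen O))
      simp only [CommRingCat.comp_apply, PresheafedSpace.comp_c_app] at e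
      rw [testHom_app_gen] at e
      rw [← CommRingCat.comp_apply, b.naturality, CommRingCat.comp_apply]
      erw [e]
      exact map_map_endo _ _ _
  · have e : testHom (𝟙 P) s = testHom (𝟙 P) s' := by
      refine h.hom_ext ?_ ?_ <;> rw [comp_testHom, comp_testHom]
      · exact congrArg (testHom (a ≫ 𝟙 P)) (hs.1.trans hs'.1.symm)
      · exact congrArg (testHom (b ≫ 𝟙 P)) (hs.2.trans hs'.2.symm)
    have e' := congrArg (fun φ : P.toPresheafedSpace ⟶ test O => φ.base) e
    have e2 := congr($(PresheafedSpace.congr_app e (op O)) (gen O))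
    simp only [CommRingCat.comp_apply] at e2
    rw [testHom_app_gen, testHom_app_gen] at e2
    exact e2.trans (map_endo _ _)

include hw in
/-- A pushout square of ringed spaces with closed immersions and an affine map is glued from affine
Ferrand squares. -/
theorem gluedBy [IsClosedImmersion i] [IsAffineHom a] [IsClosedImmersion b] :
    Ferrand.GluedBy i j a b := by
  have e : ∀ O : P.Opens, i ⁻¹ᵁ (a ⁻¹ᵁ O) = j ⁻¹ᵁ (b ⁻¹ᵁ O) := fun O => by
    rw [← Scheme.Hom.comp_preimage, ← Scheme.Hom.comp_preimage, hw]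
  have cover : ∀ y : Y, ∃ k : Ferrand.AffPair i j, y ∈ k.V := fun y => by
    obtain ⟨O, hO, hy, -⟩ := exists_isAffineOpen_mem_and_subset (x := b y) (U := ⊤) trivial
    exact ⟨⟨a ⁻¹ᵁ O, b ⁻¹ᵁ O, hO.preimage a, hO.preimage b, e O⟩, hy⟩
  refine Ferrand.GluedBy.of_isPushout cover (Ferrand.isPushout_of_affine_cover cover hw fun p => ?_)
  obtain ⟨O, hO, hp, -⟩ := exists_isAffineOpen_mem_and_subset (x := p) (U := ⊤) trivial
  refine ⟨O, ⟨a ⁻¹ᵁ O, b ⁻¹ᵁ O, hO.preimage a, hO.preimage b, e O⟩, a.resLE O _ le_rfl,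
    b.resLE O _ le_rfl, hp, rfl, rfl, Scheme.Hom.resLE_comp_ι _ _, Scheme.Hom.resLE_comp_ι _ _, ?_⟩
  have hsq : Ferrand.IsSq (b.app O).hom (a.app O).hom (j.appLE (b ⁻¹ᵁ O) (i ⁻¹ᵁ (a ⁻¹ᵁ O)) (e O).le).hom
      (i.app (a ⁻¹ᵁ O)).hom := by
    refine ⟨fun t => ?_, i.app_surjective _ (hO.preimage a), fun t t' h1 h2 => ?_, fun y x hyx => ?_⟩
    · show (b.app O ≫ j.appLE _ _ _) t = (a.app O ≫ i.app _) t
      rw [Scheme.Hom.app_eq_appLE, Scheme.Hom.app_eq_appLE, Scheme.Hom.app_eq_appLE,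
        Scheme.Hom.appLE_comp_appLE, Scheme.Hom.appLE_comp_appLE]
      simp only [hw]
    · obtain ⟨u, -, hu⟩ := existsUnique_section hw hpo O (a.app O t) (b.app O t) fun W h₁ h₂ => by
        rw [Scheme.Hom.app_eq_appLE, Scheme.Hom.app_eq_appLE, ← CommRingCat.comp_apply,
          ← CommRingCat.comp_apply, Scheme.Hom.appLE_comp_appLE, Scheme.Hom.appLE_comp_appLE]
        simp only [hw]
      exact (hu t ⟨rfl, rfl⟩).trans (hu t' ⟨h2.symm, h1.symm⟩).symm
    · obtain ⟨u, ⟨hu₁, hu₂⟩, -⟩ := existsUnique_section hw hpo O x y fun W h₁ h₂ => by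
        have hyx' := congrArg (Z.presheaf.map (homOfLE h₁).op) hyx
        rw [Scheme.Hom.app_eq_appLE, ← CommRingCat.comp_apply, ← CommRingCat.comp_apply,
          Scheme.Hom.appLE_map, Scheme.Hom.appLE_map] at hyx'
        exact hyx'.symm
      exact ⟨u, hu₂, hu₁⟩
  refine ⟨(hO.preimage a).preimage i, hO.preimage a, hO.preimage b, hO, ?_, ?_⟩
  · rw [Scheme.Hom.resLE_comp_resLE, Scheme.Hom.resLE_comp_resLE]
    simp only [hw]
  · refine hsq.congr_iso O.topIso.commRingCatIsoToRingEquiv.symm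
      (b ⁻¹ᵁ O).topIso.commRingCatIsoToRingEquiv.symm (a ⁻¹ᵁ O).topIso.commRingCatIsoToRingEquiv.symm
      (i ⁻¹ᵁ (a ⁻¹ᵁ O)).topIso.commRingCatIsoToRingEquiv.symm _ _ _ _ ?_ ?_ ?_ ?_
    · intro t; rw [Scheme.Hom.app_eq_appLE]; exact resLE_appTop_topIso b O _ _ t
    · intro t; rw [Scheme.Hom.app_eq_appLE]; exact resLE_appTop_topIso a O _ _ t
    · intro t; exact resLE_appTop_topIso j _ _ _ t
    · intro t; rw [Scheme.Hom.app_eq_appLE i]; exact resLE_appTop_topIso i _ _ _ t

end Pushout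

end

end Groth.Agent.Lib.Pinch.RingedPushout
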